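import Cfsg.Agent.Lib.Classical.OrthPrimeReal
import Cfsg.Agent.Lib.Classical.OrthForms
import Cfsg.Agent.Lib.Spectrum.PSpFour.Roots

/-!
Isometries of prescribed order on small quadratic spaces in characteristic two.
-/

set_option autoImplicit false
set_option linter.unusedSectionVars false
set_option linter.style.haveILetI false
set_option linter.style.longLine false
set_option maxHeartbeats 800000

namespace CfsgLib.Spectrum.SpEight

open Polynomial Module CfsgLib.Classical.OrthModels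

universe u v w

variable {F : Type u} [Field F]

section Defs

variable {V : Type v} [AddCommGroup V] [Module F V] {W : Type w} [AddCommGroup W] [Module F W]

/-- An isometry of order `r`. -/
def Tor (Q : V → F) (r : ℕ) : Prop :=
  ∃ T : Module.End F V, (∀ x, Q (T x) = Q x) ∧ T ^ r = 1 ∧ ∀ n, T ^ n = 1 → r ∣ n

/-- An isometry of order `2 ^ a`. -/
def Uni (Q : V → F) (a : ℕ) : Prop :=
  ∃ U : Module.End F V, (∀ x, Q (U x) = Q x) ∧ ∀ n, U ^ n = 1 ↔ 2 ^ a ∣ n

/-- An isometry of order `2 ^ a` with a fixed space of dimension `d` and non-zero sum of powers. -/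
def Ev (Q : V → F) (a d : ℕ) : Prop :=
  ∃ U : Module.End F V, (∀ x, Q (U x) = Q x) ∧ U ^ 2 ^ a = 1 ∧ ∑ i ∈ Finset.range (2 ^ a), U ^ i ≠ 0 ∧
    finrank F (LinearMap.ker (U - 1)) = d

theorem Tor.of_iso {Q : V → F} {Q' : W → F} (h : Iso Q Q') {r : ℕ} (hT : Tor Q r) : Tor Q' r := by
  obtain ⟨e, he⟩ := h
  obtain ⟨T, hT, hr, hn⟩ := hT
  refine ⟨e.conjRingEquiv T, fun x => ?_, by rw [← map_pow, hr, map_one], fun n h => hn n ?_⟩
  · show Q' (e (T (e.symm x))) = _
    rw [he, hT, ← he, e.apply_symm_apply]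
  · rw [← map_pow] at h
    exact (map_eq_one_iff e.conjRingEquiv e.conjRingEquiv.injective).mp h

theorem Uni.of_iso {Q : V → F} {Q' : W → F} (h : Iso Q Q') {a : ℕ} (hU : Uni Q a) : Uni Q' a := by
  obtain ⟨e, he⟩ := h
  obtain ⟨U, hU, hn⟩ := hU
  refine ⟨e.conjRingEquiv U, fun x => ?_, fun n => ?_⟩
  · show Q' (e (U (e.symm x))) = _
    rw [he, hU, ← he, e.apply_symm_apply]
  · rw [← map_pow, map_eq_one_iff e.conjRingEquiv e.conjRingEquiv.injective]
    exact hn n

theorem Ev.of_iso {Q : V → F} {Q' : W → F} (h : Iso Q Q') {a d : ℕ} (hU : Ev Q a d) : Ev Q' a d := by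
  obtain ⟨e, he⟩ := h
  obtain ⟨U, hU, hp, hs, hd⟩ := hU
  refine ⟨e.conjRingEquiv U, fun x => ?_, by rw [← map_pow, hp, map_one], ?_, ?_⟩
  · show Q' (e (U (e.symm x))) = _
    rw [he, hU, ← he, e.apply_symm_apply]
  · simp only [← map_pow, ← map_sum]
    exact fun h0 => hs ((map_eq_zero_iff e.conjRingEquiv e.conjRingEquiv.injective).mp h0)
  · have hk : LinearMap.ker (e.conjRingEquiv U - 1) = (LinearMap.ker (U - 1)).map (e : V →ₗ[F] W) := by
      ext x
      rw [Submodule.mem_map_equiv, LinearMap.mem_ker, LinearMap.mem_ker, LinearMap.sub_apply, LinearMap.sub_apply,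
        sub_eq_zero, sub_eq_zero, Module.End.one_apply, Module.End.one_apply]
      show e (U (e.symm x)) = x ↔ _
      rw [LinearEquiv.eq_symm_apply]
    rw [hk, LinearEquiv.finrank_map_eq, hd]

theorem Ev.uni [CharP F 2] {Q : V → F} {a d : ℕ} (h : Ev Q a d) : Uni Q a := by
  obtain ⟨U, hU, hp, hs, -⟩ := h
  refine ⟨U, hU, fun n => ?_⟩
  rw [← orderOf_dvd_iff_pow_eq_one]
  suffices orderOf U = 2 ^ a by rw [this]
  rcases a with _ | a
  · rw [pow_zero, orderOf_eq_one_iff]
    simpa using hp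
  haveI := Fact.mk Nat.prime_two
  refine orderOf_eq_prime_pow (fun h1 => hs ?_) hp
  rw [pow_succ, mul_two, Finset.sum_range_add]
  simp only [pow_add, h1, one_mul]
  refine LinearMap.ext fun x => ?_
  rw [← two_smul F, CharTwo.two_eq_zero, zero_smul]

theorem Tor.sum {Q : V → F} {Q' : W → F} {r r' : ℕ} (hc : r.Coprime r') (h : Tor Q r) (h' : Tor Q' r') :
    Tor (add Q Q') (r * r') := by
  obtain ⟨T, hT, hr, hn⟩ := h
  obtain ⟨S, hS, hr', hn'⟩ := h'
  refine ⟨LinearMap.prodMapRingHom F V W (T, S), fun x => ?_, ?_, fun n h => ?_⟩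
  · show Q (T x.1) + Q' (S x.2) = _
    rw [hT, hS]; rfl
  · rw [← map_pow, Prod.pow_mk, pow_mul, hr, one_pow, mul_comm, pow_mul, hr', one_pow]
    exact map_one _
  · rw [← map_pow] at h
    refine hc.mul_dvd_of_dvd_of_dvd (hn n ?_) (hn' n ?_)
    · exact LinearMap.ext fun x => congrArg Prod.fst (LinearMap.congr_fun h (x, 0))
    · exact LinearMap.ext fun x => congrArg Prod.snd (LinearMap.congr_fun h (0, x))

theorem Ev.sum [FiniteDimensional F V] [FiniteDimensional F W] {Q : V → F} {Q' : W → F} {a d a' d' : ℕ} (ha : a' ≤ a)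
    (h : Ev Q a d) (h' : Ev Q' a' d') : Ev (add Q Q') a (d + d') := by
  obtain ⟨U, hU, hp, hs, hd⟩ := h
  obtain ⟨S, hS, hp', -, hd'⟩ := h'
  refine ⟨LinearMap.prodMapRingHom F V W (U, S), fun x => ?_, ?_, ?_, ?_⟩
  · show Q (U x.1) + Q' (S x.2) = _
    rw [hU, hS]; rfl
  · obtain ⟨c, hc⟩ := Nat.pow_dvd_pow 2 ha
    rw [← map_pow, Prod.pow_mk, hp, hc, pow_mul, hp', one_pow]
    exact map_one _
  · simp only [← map_pow, ← map_sum]
    refine fun h0 => hs (LinearMap.ext fun x => ?_)
    have := congrArg Prod.fst (LinearMap.congr_fun h0 (x, 0))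
    simpa [Prod.fst_sum] using this
  · have hk : LinearMap.ker (LinearMap.prodMapRingHom F V W (U, S) - 1) =
        (LinearMap.ker (U - 1)).prod (LinearMap.ker (S - 1)) := by
      ext x
      simp [Prod.ext_iff, sub_eq_zero]
    let e : ((LinearMap.ker (U - 1)).prod (LinearMap.ker (S - 1)) : Submodule F (V × W)) ≃ₗ[F]
        LinearMap.ker (U - 1) × LinearMap.ker (S - 1) :=
      { toFun := fun x => (⟨x.1.1, x.2.1⟩, ⟨x.1.2, x.2.2⟩)
        invFun := fun x => ⟨(x.1.1, x.2.1), x.1.2, x.2.2⟩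
        map_add' := fun _ _ => rfl
        map_smul' := fun _ _ => rfl
        left_inv := fun _ => rfl
        right_inv := fun _ => rfl }
    rw [hk, e.finrank_eq, Module.finrank_prod, hd, hd']

theorem ev_one [Nontrivial V] (Q : V → F) : Ev Q 0 (finrank F V) := by
  refine ⟨1, fun x => rfl, one_pow _, ?_, by rw [sub_self, LinearMap.ker_zero, finrank_top]⟩
  simp

end Defs

section Unipotent

variable [CharP F 2] {V : Type v} [AddCommGroup V] [Module F V] [FiniteDimensional F V]

/-- A reflection of a plane. -/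
theorem ev_refl (Q : QuadraticForm F V) (hQ : (QuadraticMap.polarBilin Q).Nondegenerate) (hd : finrank F V = 2)
    {v : V} (hv : Q v = 1) :
    ∃ U : Module.End F V, (∀ x, Q (U x) = Q x) ∧ U ^ 2 = 1 ∧ finrank F (LinearMap.ker (U - 1)) = 1 ∧
      ∃ u, QuadraticMap.polar Q (U u) u ≠ 0 := by
  set B := QuadraticMap.polarBilin Q
  have hv0 : v ≠ 0 := fun e => by simp [e] at hv
  have hvv : B v v = 0 := by
    show QuadraticMap.polar Q v v = 0
    rw [QuadraticMap.polar_self]
    simp [CharTwo.two_eq_zero]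
  refine ⟨1 + (B v).smulRight v, fun x => ?_, LinearMap.ext fun x => ?_, ?_, ?_⟩
  · show Q (x + B v x • v) = Q x
    rw [QuadraticMap.map_add ⇑Q, QuadraticMap.map_smul, hv, QuadraticMap.polar_smul_right, QuadraticMap.polar_comm]
    show Q x + (B v x * B v x) • 1 + B v x • B v x = Q x
    rw [smul_eq_mul, smul_eq_mul, mul_one, add_assoc, CharTwo.add_self_eq_zero, add_zero]
  · rw [pow_two]
    show (x + B v x • v) + B v (x + B v x • v) • v = x
    rw [map_add, map_smul, hvv, smul_zero, add_zero, add_assoc, ← add_smul, CharTwo.add_self_eq_zero, zero_smul,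
      add_zero]
  · have hk : LinearMap.ker (1 + (B v).smulRight v - 1) = LinearMap.ker (B v) := by
      ext x
      rw [LinearMap.mem_ker, LinearMap.mem_ker, add_sub_cancel_left, LinearMap.smulRight_apply, smul_eq_zero]
      exact or_iff_left hv0
    have hne : B v ≠ 0 := fun e => hv0 (hQ.1 v fun y => LinearMap.congr_fun e y)
    have := Module.Dual.finrank_ker_add_one_of_ne_zero hne
    rw [hk]
    omega
  · obtain ⟨u, hu⟩ : ∃ u, B v u ≠ 0 := by
      by_contra h
      push Not at h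
      exact hv0 (hQ.1 v h)
    refine ⟨u, ?_⟩
    show B (u + B v u • v) u ≠ 0
    rw [map_add, map_smul, LinearMap.add_apply, LinearMap.smul_apply, smul_eq_mul,
      show B u u = 0 by show QuadraticMap.polar Q u u = 0; rw [QuadraticMap.polar_self]; simp [CharTwo.two_eq_zero],
      zero_add]
    exact mul_ne_zero hu hu

/-- The orthogonal sum with a hyperbolic plane. -/
def hyp (Q : V → F) (x : (F × F) × V) : F := x.1.1 * x.1.2 + Q x.2

/-- The product of a Siegel transformation and an isometry of the orthogonal complement. -/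
def step (Q : QuadraticForm F V) (U : Module.End F V) (u : V) : Module.End F ((F × F) × V) where
  toFun x := ((x.1.1 + QuadraticMap.polar Q (U x.2) u + Q u * x.1.2, x.1.2), U x.2 + x.1.2 • u)
  map_add' x y := by
    simp only [Prod.fst_add, Prod.snd_add, map_add, QuadraticMap.polar_add_left, add_smul, mul_add]
    refine Prod.ext (Prod.ext ?_ rfl) ?_
    · dsimp; ring
    · dsimp; abel
  map_smul' c x := by
    simp only [Prod.smul_fst, Prod.smul_snd, map_smul, QuadraticMap.polar_smul_left, smul_eq_mul, RingHom.id_apply]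
    refine Prod.ext (Prod.ext ?_ rfl) ?_
    · dsimp; ring
    · dsimp; rw [smul_add, smul_smul]

variable {Q : QuadraticForm F V} {U : Module.End F V} {u : V}

theorem step_iso (hU : ∀ x, Q (U x) = Q x) (x : (F × F) × V) : hyp (⇑Q) (step Q U u x) = hyp (⇑Q) x := by
  simp only [hyp, step, LinearMap.coe_mk, AddHom.coe_mk]
  rw [QuadraticMap.map_add ⇑Q, QuadraticMap.map_smul, QuadraticMap.polar_smul_right, hU]
  simp only [smul_eq_mul]
  linear_combination (x.1.2 * QuadraticMap.polar Q (U x.2) u + x.1.2 * x.1.2 * Q u) * (CharTwo.two_eq_zero : (2 : F) = 0)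

theorem step_pow (n : ℕ) :
    ((step Q U u) ^ n) ((1, 0), 0) = ((1, 0), 0) ∧
      (∃ c, ((step Q U u) ^ n) ((0, 1), 0) = ((c, 1), ∑ i ∈ Finset.range n, (U ^ i) u)) ∧
      ∀ v, ∃ c, ((step Q U u) ^ n) ((0, 0), v) = ((c, 0), (U ^ n) v) := by
  induction n with
  | zero => exact ⟨rfl, ⟨0, rfl⟩, fun v => ⟨0, rfl⟩⟩
  | succ n ih =>
    obtain ⟨h1, ⟨c, h2⟩, h3⟩ := ih
    refine ⟨?_, ?_, fun v => ?_⟩
    · rw [pow_succ', Module.End.mul_apply, h1]; simp [step]
    · refine ⟨(step Q U u ((c, 1), ∑ i ∈ Finset.range n, (U ^ i) u)).1.1, ?_⟩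
      rw [pow_succ', Module.End.mul_apply, h2]
      refine Prod.ext (Prod.ext rfl rfl) ?_
      show U (∑ i ∈ Finset.range n, (U ^ i) u) + (1 : F) • u = _
      rw [Finset.sum_range_succ' _ n, one_smul, map_sum]
      simp [pow_succ']
    · obtain ⟨c, hc⟩ := h3 v
      refine ⟨(step Q U u ((c, 0), (U ^ n) v)).1.1, ?_⟩
      rw [pow_succ', Module.End.mul_apply, hc]
      refine Prod.ext (Prod.ext rfl rfl) ?_
      show U ((U ^ n) v) + (0 : F) • u = _
      rw [zero_smul, add_zero, pow_succ', Module.End.mul_apply]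

theorem iso_pow (hU : ∀ x, Q (U x) = Q x) (n : ℕ) (x : (F × F) × V) :
    hyp (⇑Q) (((step Q U u) ^ n) x) = hyp (⇑Q) x := by
  induction n with
  | zero => rfl
  | succ n ih => rw [pow_succ', Module.End.mul_apply, step_iso hU, ih]

theorem decomp (x : (F × F) × V) :
    x = x.1.1 • ((((1 : F), 0), 0) : (F × F) × V) + x.1.2 • (((0 : F), 1), 0) + ((0, 0), x.2) := by
  refine Prod.ext (Prod.ext ?_ ?_) ?_ <;> simp

theorem step_top (hU : ∀ x, Q (U x) = Q x) {n : ℕ} (hn : U ^ n = 1) :
    (∀ v, ((step Q U u) ^ n) ((0, 0), v) =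
        ((QuadraticMap.polar Q (∑ i ∈ Finset.range n, (U ^ i) u) v, 0), v)) ∧
      ((step Q U u) ^ n) ^ 2 = 1 := by
  obtain ⟨h1, ⟨c, h2⟩, h3⟩ := step_pow (Q := Q) (U := U) (u := u) n
  set w := ∑ i ∈ Finset.range n, (U ^ i) u
  set W := (step Q U u) ^ n
  have hphi : ∀ v, W ((0, 0), v) = ((QuadraticMap.polar Q w v, 0), v) := by
    intro v
    obtain ⟨d, hd⟩ := h3 v
    rw [hn, Module.End.one_apply] at hd
    have e1 : c + Q w = 0 := by
      have := iso_pow (u := u) hU n ((0, 1), 0)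
      rw [show ((step Q U u) ^ n) ((0, 1), 0) = _ from h2] at this
      simpa [hyp] using this
    have e2 := iso_pow (u := u) hU n ((0, 1), v)
    rw [show ((((0 : F), (1 : F)), v) : (F × F) × V) = ((0, 1), 0) + ((0, 0), v) by simp, map_add] at e2
    rw [show ((step Q U u) ^ n) ((0, 1), 0) = _ from h2, show ((step Q U u) ^ n) ((0, 0), v) = _ from hd] at e2
    simp only [hyp, Prod.fst_add, Prod.snd_add, add_zero, zero_add, mul_one, zero_mul] at e2
    rw [QuadraticMap.map_add ⇑Q] at e2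
    have : d = QuadraticMap.polar Q w v := CharTwo.add_eq_zero.mp (by linear_combination e2 - e1)
    rw [hd, this]
  refine ⟨hphi, LinearMap.ext fun x => ?_⟩
  rw [pow_two, Module.End.mul_apply, decomp x]
  simp only [map_add, map_smul, h1, h2, hphi, Module.End.one_apply]
  have hw : W ((c, 1), w) = ((0, 1), 0) := by
    rw [decomp ((c, 1), w), map_add, map_add, map_smul, map_smul, h1, h2, hphi, QuadraticMap.polar_self]
    refine Prod.ext (Prod.ext ?_ ?_) ?_ <;> simp [CharTwo.two_eq_zero, CharTwo.add_self_eq_zero, two_mul, two_smul]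
    rw [← two_smul F, CharTwo.two_eq_zero, zero_smul]
  have hv : W ((QuadraticMap.polar Q w x.2, 0), x.2) = ((0, 0), x.2) := by
    rw [decomp ((QuadraticMap.polar Q w x.2, 0), x.2), map_add, map_add, map_smul, map_smul, h1, h2, hphi]
    refine Prod.ext (Prod.ext ?_ ?_) ?_ <;> simp [CharTwo.add_self_eq_zero]
  rw [hw, hv]

theorem uni_step {a : ℕ} (hU : ∀ x, Q (U x) = Q x) (hp : U ^ 2 ^ a = 1)
    (hs : ∑ i ∈ Finset.range (2 ^ a), (U ^ i) u ≠ 0) : Uni (hyp ⇑Q) (a + 1) := by
  refine ⟨step Q U u, step_iso hU, fun n => ?_⟩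
  rw [← orderOf_dvd_iff_pow_eq_one]
  suffices orderOf (step Q U u) = 2 ^ (a + 1) by rw [this]
  haveI := Fact.mk Nat.prime_two
  refine orderOf_eq_prime_pow (fun h1 => hs ?_) (by rw [pow_succ, pow_mul]; exact (step_top hU hp).2)
  obtain ⟨-, ⟨c, h2⟩, -⟩ := step_pow (Q := Q) (U := U) (u := u) (2 ^ a)
  rw [h1, Module.End.one_apply] at h2
  exact (congrArg Prod.snd h2).symm

theorem ev_step (hU : ∀ x, Q (U x) = Q x) (hp : U ^ 2 = 1) (hd : finrank F (LinearMap.ker (U - 1)) = 1)
    (hu : QuadraticMap.polar Q (U u) u ≠ 0) : Ev (hyp ⇑Q) 2 1 := by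
  have hww : ∑ i ∈ Finset.range 2, (U ^ i) u = u + U u := by simp [Finset.sum_range_succ]
  have hUU : ∀ x, U (U x) = x := fun x => by rw [← Module.End.mul_apply, ← pow_two, hp]; rfl
  obtain ⟨hphi, hsq⟩ := step_top (u := u) hU hp
  rw [hww] at hphi
  have huu : QuadraticMap.polar Q u u = 0 := by rw [QuadraticMap.polar_self]; simp [CharTwo.two_eq_zero]
  refine ⟨step Q U u, step_iso hU, by rw [show 2 ^ 2 = 2 * 2 from rfl, pow_mul]; exact hsq, fun h0 => hu ?_, ?_⟩
  · have h := LinearMap.congr_fun h0 ((0, 1), 0)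
    rw [show 2 ^ 2 = 2 + 2 from rfl, Finset.sum_range_add, LinearMap.add_apply] at h
    have e1 : (∑ i ∈ Finset.range 2, step Q U u ^ i) ((0, 1), 0) = ((Q u, 0), u) := by
      simp only [Finset.sum_range_succ, Finset.sum_range_zero, zero_add, pow_zero, pow_one, LinearMap.add_apply,
        Module.End.one_apply, step, LinearMap.coe_mk, AddHom.coe_mk]
      refine Prod.ext (Prod.ext ?_ ?_) ?_ <;> simp [CharTwo.add_self_eq_zero]
    rw [e1, show ∑ i ∈ Finset.range 2, step Q U u ^ (2 + i) = step Q U u ^ 2 * ∑ i ∈ Finset.range 2, step Q U u ^ i by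
      rw [Finset.mul_sum]; simp only [pow_add], Module.End.mul_apply, e1,
      decomp ((Q u, 0), u), map_add, map_add, map_smul, map_smul, (step_pow 2).1, hphi] at h
    have := congrArg (fun z => z.1.1) h
    simp only [Prod.fst_add, Prod.smul_fst, zero_smul, smul_eq_mul, mul_one, add_zero, LinearMap.zero_apply,
      Prod.fst_zero, QuadraticMap.polar_add_left, huu, zero_add] at this
    rwa [← add_assoc, CharTwo.add_self_eq_zero, zero_add] at this
  · have hne : ((((1 : F), 0), 0) : (F × F) × V) ≠ 0 := fun e => one_ne_zero (congrArg (fun z => z.1.1) e)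
    suffices LinearMap.ker (step Q U u - 1) = Submodule.span F {(((1 : F), 0), 0)} by
      rw [this, finrank_span_singleton hne]
    refine le_antisymm (fun x hx => ?_) ?_
    · rw [LinearMap.mem_ker, LinearMap.sub_apply, sub_eq_zero] at hx
      obtain ⟨⟨a, y⟩, v⟩ := x
      have h1 : a + QuadraticMap.polar Q (U v) u + Q u * y = a := congrArg (fun z => z.1.1) hx
      have h2 : U v + y • u = v := congrArg Prod.snd hx
      have hy : y = 0 := by
        by_contra hy
        apply hu
        have h3 : y • U u = y • u := by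
          have h4 : U (U v) + y • U u = U v := by rw [← map_smul, ← map_add, h2]
          rw [hUU, ← eq_sub_iff_add_eq'] at h4
          rw [h4, eq_sub_of_add_eq' h2, ← neg_sub v (U v), ← neg_one_smul F, CharTwo.neg_eq, one_smul]
        rw [smul_right_injective V hy h3, huu]
      subst hy
      rw [zero_smul, add_zero] at h2
      rw [mul_zero, add_zero, h2] at h1
      have h1' : QuadraticMap.polar Q v u = 0 := by linear_combination h1
      have hwmem : u + U u ∈ LinearMap.ker (U - 1) := by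
        rw [LinearMap.mem_ker, LinearMap.sub_apply, map_add, hUU, Module.End.one_apply, add_comm (U u), sub_self]
      have hw0 : (⟨u + U u, hwmem⟩ : LinearMap.ker (U - 1)) ≠ 0 := fun e => hu (by
        have e' : u + U u = 0 := congrArg Subtype.val e
        rw [eq_neg_of_add_eq_zero_right e', QuadraticMap.polar_neg_left, huu, neg_zero])
      obtain ⟨c, hc⟩ := exists_smul_eq_of_finrank_eq_one hd hw0
        (⟨v, by rw [LinearMap.mem_ker, LinearMap.sub_apply, Module.End.one_apply, h2, sub_self]⟩ : LinearMap.ker (U - 1))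
      have hc' : c • (u + U u) = v := congrArg Subtype.val hc
      rw [← hc', QuadraticMap.polar_smul_left, QuadraticMap.polar_add_left, huu, zero_add, smul_eq_mul, mul_eq_zero,
        or_iff_left hu] at h1'
      rw [Submodule.mem_span_singleton]
      exact ⟨a, by rw [← hc', h1']; simp⟩
    · rw [Submodule.span_singleton_le_iff_mem, LinearMap.mem_ker, LinearMap.sub_apply, sub_eq_zero]
      simpa using (step_pow (Q := Q) (U := U) (u := u) 1).1

theorem hyp_iso (Q : V → F) : Iso (hyp Q) (add (Cfsg.quadFormPlus 1 F) Q) := by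
  let e : (F × F) ≃ₗ[F] (Fin 1 ⊕ Fin 1 → F) :=
    { toFun := fun p => Sum.elim (fun _ => p.1) (fun _ => p.2)
      invFun := fun x => (x (.inl 0), x (.inr 0))
      map_add' := fun p q => by funext i; rcases i with i | i <;> rfl
      map_smul' := fun c p => by funext i; rcases i with i | i <;> rfl
      left_inv := fun p => rfl
      right_inv := fun x => by funext i; rcases i with i | i <;> rw [Subsingleton.elim i 0] <;> rfl }
  exact ⟨e.prodCongr (LinearEquiv.refl F V), fun x => by simp [hyp, add, Cfsg.quadFormPlus, e]; rfl⟩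

end Unipotent

section Bases

variable [CharP F 2] [Fintype F] {a b : F} (hab : ∀ z₁ z₂ : F, z₁ ^ 2 + a * z₁ * z₂ + b * z₂ ^ 2 = 0 → z₁ = 0 ∧ z₂ = 0)

theorem refl_plus : ∃ (Q : QuadraticForm F (Fin 1 ⊕ Fin 1 → F)) (U : Module.End F (Fin 1 ⊕ Fin 1 → F)),
    ⇑Q = Cfsg.quadFormPlus 1 F ∧ (∀ x, Q (U x) = Q x) ∧ U ^ 2 = 1 ∧ finrank F (LinearMap.ker (U - 1)) = 1 ∧
      ∃ u, QuadraticMap.polar Q (U u) u ≠ 0 := by
  obtain ⟨Q, hQ, hn⟩ := CfsgLib.Orth.exists_quadForm_plus (F := F) 1
  obtain ⟨U, h⟩ := ev_refl Q (CfsgLib.Orth.bilin_nondeg hn) (by simp) (v := fun _ => 1)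
    (by rw [hQ]; simp [Cfsg.quadFormPlus])
  exact ⟨Q, U, hQ, h⟩

include hab in
theorem refl_minus : ∃ (Q : QuadraticForm F ((Fin 0 ⊕ Fin 0) ⊕ Fin 2 → F)) (U : Module.End F ((Fin 0 ⊕ Fin 0) ⊕ Fin 2 → F)),
    ⇑Q = Cfsg.quadFormMinus 0 F a b ∧ (∀ x, Q (U x) = Q x) ∧ U ^ 2 = 1 ∧ finrank F (LinearMap.ker (U - 1)) = 1 ∧
      ∃ u, QuadraticMap.polar Q (U u) u ≠ 0 := by
  obtain ⟨Q, hQ, hn⟩ := CfsgLib.Orth.exists_quadForm_minus 0 hab
  obtain ⟨U, h⟩ := ev_refl Q (CfsgLib.Orth.bilin_nondeg hn) (by simp) (v := Sum.elim 0 ![1, 0])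
    (by rw [hQ]; simp [Cfsg.quadFormMinus])
  exact ⟨Q, U, hQ, h⟩

theorem ev_of_refl {V : Type v} [AddCommGroup V] [Module F V] [FiniteDimensional F V] {Q : QuadraticForm F V} {U : Module.End F V}
    (hU : ∀ x, Q (U x) = Q x) (hp : U ^ 2 = 1) (hd : finrank F (LinearMap.ker (U - 1)) = 1) {u : V}
    (hu : QuadraticMap.polar Q (U u) u ≠ 0) : Ev (⇑Q) 1 1 := by
  refine ⟨U, hU, by rw [pow_one]; exact hp, fun h => hu ?_, hd⟩
  have := LinearMap.congr_fun h u
  simp only [pow_one, Finset.sum_range_succ, Finset.sum_range_zero, zero_add, pow_zero, LinearMap.add_apply,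
    Module.End.one_apply, LinearMap.zero_apply] at this
  rw [eq_neg_of_add_eq_zero_right this, QuadraticMap.polar_neg_left, QuadraticMap.polar_self]
  simp [CharTwo.two_eq_zero]

theorem uni_of_ev {V : Type v} [AddCommGroup V] [Module F V] [FiniteDimensional F V] {Q : QuadraticForm F V} {a d : ℕ}
    (h : Ev (⇑Q) a d) : Uni (add (Cfsg.quadFormPlus 1 F) ⇑Q) (a + 1) := by
  obtain ⟨U, hU, hp, hs, -⟩ := h
  obtain ⟨u, hu⟩ : ∃ u, ∑ i ∈ Finset.range (2 ^ a), (U ^ i) u ≠ 0 := by
    by_contra h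
    push Not at h
    exact hs (LinearMap.ext fun u => by rw [LinearMap.sum_apply]; exact h u)
  exact (uni_step hU hp hu).of_iso (hyp_iso _)

theorem ev_plus_one : Ev (Cfsg.quadFormPlus 1 F) 1 1 := by
  obtain ⟨Q, U, hQ, hU, hp, hd, u, hu⟩ := refl_plus (F := F)
  exact hQ ▸ ev_of_refl hU hp hd hu

include hab in
theorem ev_minus_zero : Ev (Cfsg.quadFormMinus 0 F a b) 1 1 := by
  obtain ⟨Q, U, hQ, hU, hp, hd, u, hu⟩ := refl_minus hab
  exact hQ ▸ ev_of_refl hU hp hd hu

theorem ev_plus_two : Ev (Cfsg.quadFormPlus 2 F) 2 1 := by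
  obtain ⟨Q, U, hQ, hU, hp, hd, u, hu⟩ := refl_plus (F := F)
  exact (ev_step hU hp hd hu).of_iso ((hyp_iso _).trans (hQ ▸ plus_plus 1 1))

include hab in
theorem ev_minus_one : Ev (Cfsg.quadFormMinus 1 F a b) 2 1 := by
  obtain ⟨Q, U, hQ, hU, hp, hd, u, hu⟩ := refl_minus hab
  exact (ev_step hU hp hd hu).of_iso ((hyp_iso _).trans (hQ ▸ plus_minus 1 0 a b))

theorem uni_plus_three : Uni (Cfsg.quadFormPlus 3 F) 3 := by
  obtain ⟨Q, hQ, -⟩ := CfsgLib.Orth.exists_quadForm_plus (F := F) 2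
  exact (uni_of_ev (Q := Q) (hQ ▸ ev_plus_two (F := F))).of_iso (hQ ▸ plus_plus 1 2)

include hab in
theorem uni_minus_two : Uni (Cfsg.quadFormMinus 2 F a b) 3 := by
  obtain ⟨Q, hQ, -⟩ := CfsgLib.Orth.exists_quadForm_minus 1 hab
  exact (uni_of_ev (Q := Q) (hQ ▸ ev_minus_one hab)).of_iso (hQ ▸ plus_minus 1 1 a b)

end Bases

section Tori

open CfsgLib.Classical.OrthPrimeReal CfsgLib.Classical.UnitaryTwistPoly CfsgLib.Spectrum.PSpFour

variable [CharP F 2] [Fintype F]

theorem eigen_dvd_of_minpoly {ι : Type} [Fintype ι] [DecidableEq ι] (T : Module.End F (ι → F)) {x : AlgebraicClosure F}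
    (h : minpoly F x ∣ T.charpoly) {n : ℕ} (hn : T ^ n = 1) : orderOf x ∣ n := by
  have hA : (LinearMap.toMatrix' T) ^ n = (1 : F) • 1 := by
    rw [one_smul, ← LinearMap.toMatrix'_one, ← hn]
    exact (map_pow (LinearMap.toMatrixAlgEquiv' : Module.End F (ι → F) ≃ₐ[F] Matrix ι ι F) T n).symm
  refine (eigen_dvd (algebraMap F (AlgebraicClosure F)) _ ?_ (one_mul 1) hA).2 rfl
  rw [IsRoot.def, eval_map, ← aeval_def, ← Matrix.charpoly_toLin', Matrix.toLin'_toMatrix']
  obtain ⟨c, hc⟩ := h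
  rw [hc, map_mul, minpoly.aeval, zero_mul]

theorem card_pow_natDegree {x : AlgebraicClosure F} {r : ℕ} (hx : orderOf x = r) (hr : 0 < r) :
    r ∣ Fintype.card F ^ (minpoly F x).natDegree - 1 := by
  have hi : IsIntegral F x := Algebra.IsIntegral.isIntegral x
  haveI := IntermediateField.adjoin.finiteDimensional hi
  haveI : Finite (IntermediateField.adjoin F {x}) := Module.finite_of_finite F
  haveI := Fintype.ofFinite (IntermediateField.adjoin F {x})
  have hx0 : x ≠ 0 := fun e => by rw [e, orderOf_zero] at hx; omega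
  set y : IntermediateField.adjoin F {x} := ⟨x, IntermediateField.mem_adjoin_simple_self F x⟩
  have h := FiniteField.pow_card_sub_one_eq_one y (fun e => hx0 (congrArg Subtype.val e))
  rw [Module.card_eq_pow_finrank (K := F), IntermediateField.adjoin.finrank hi] at h
  exact hx ▸ orderOf_dvd_of_pow_eq_one (congrArg Subtype.val h)

theorem natDegree_dvd {x : AlgebraicClosure F} {m : ℕ} (h : x ^ Fintype.card F ^ m = x) :
    (minpoly F x).natDegree ∣ m := by
  refine (minpoly.irreducible (Algebra.IsIntegral.isIntegral x)).natDegree_dvd_of_dvd_X_pow_card_pow_sub_X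
    (minpoly.dvd F x ?_)
  simp [Nat.card_eq_fintype_card, h]

theorem card_even : ∃ k : ℕ, k ≠ 0 ∧ Fintype.card F = 2 ^ k := by
  obtain ⟨k, -, hk⟩ := FiniteField.card F 2
  exact ⟨k, k.ne_zero, hk⟩

theorem odd_torus {d : ℕ} (hd : d ≠ 0) :
    Odd (Fintype.card F ^ d - 1) ∧ Odd (Fintype.card F ^ d + 1) ∧ 2 ≤ Fintype.card F ^ d := by
  obtain ⟨k, hk, hq⟩ := card_even (F := F)
  have he : Even (Fintype.card F ^ d) := by rw [hq, ← pow_mul]; exact even_two.pow_of_ne_zero (mul_ne_zero hk hd)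
  have h2 : 2 ≤ Fintype.card F ^ d := Fintype.one_lt_card.trans_le (Nat.le_self_pow hd _)
  obtain ⟨c, hc⟩ := he
  exact ⟨⟨c - 1, by omega⟩, ⟨c, by omega⟩, h2⟩

theorem exists_root_order {r : ℕ} (hr : Odd r) : ∃ x : AlgebraicClosure F, orderOf x = r := by
  haveI : CharP (AlgebraicClosure F) 2 := charP_of_injective_algebraMap (algebraMap F (AlgebraicClosure F)).injective 2
  refine exists_orderOf r fun h => ?_
  rw [CharP.cast_eq_zero_iff (AlgebraicClosure F) 2] at h
  exact Nat.not_even_iff_odd.mpr hr (even_iff_two_dvd.mpr h)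

theorem tor_plus {d : ℕ} (hd : d ≠ 0) : Tor (Cfsg.quadFormPlus d F) (Fintype.card F ^ d - 1) := by
  obtain ⟨hodd, -, h2⟩ := odd_torus (F := F) hd
  obtain ⟨x, hx⟩ := exists_root_order (F := F) hodd
  have hr : 0 < Fintype.card F ^ d - 1 := by omega
  set g := minpoly F x
  have hi : IsIntegral F x := Algebra.IsIntegral.isIntegral x
  have hxr : x ^ (Fintype.card F ^ d - 1) = 1 := hx ▸ pow_orderOf_eq_one x
  have hle : g.natDegree ∣ d := natDegree_dvd (by rw [← Nat.sub_add_cancel (show 1 ≤ Fintype.card F ^ d by omega), pow_succ, hxr, one_mul])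
  have hge : d ≤ g.natDegree := by
    by_contra hlt
    have h1 : Fintype.card F ^ d - 1 ≤ Fintype.card F ^ g.natDegree - 1 := Nat.le_of_dvd ?_ (card_pow_natDegree hx hr)
    · have : Fintype.card F ^ g.natDegree < Fintype.card F ^ d := Nat.pow_lt_pow_right Fintype.one_lt_card (lt_of_not_ge hlt)
      omega
    · exact Nat.sub_pos_of_lt (Nat.one_lt_pow (show g.natDegree ≠ 0 from (minpoly.natDegree_pos hi).ne') Fintype.one_lt_card)
  have hdeg : g.natDegree = d := le_antisymm (Nat.le_of_dvd (Nat.pos_of_ne_zero hd) hle) hge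
  obtain ⟨T, hT, hTr, hTc⟩ := real_pair (p := 2) hr g (minpoly.monic hi) hdeg
    (minpoly.coeff_zero_ne_zero hi fun e => by rw [e, orderOf_zero] at hx; omega) (fun P hP hPg => by
      refine ((hP.associated_of_dvd (minpoly.irreducible hi) hPg).dvd).trans (minpoly.dvd F x ?_)
      simp [hxr])
  exact ⟨T, hT, hTr, fun n hn => hx ▸ eigen_dvd_of_minpoly T (hTc ▸ dvd_mul_right g _) hn⟩

theorem tor_minus {a b : F} (hab : ∀ z₁ z₂ : F, z₁ ^ 2 + a * z₁ * z₂ + b * z₂ ^ 2 = 0 → z₁ = 0 ∧ z₂ = 0) (j : ℕ) :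
    Tor (Cfsg.quadFormMinus j F a b) (Fintype.card F ^ (j + 1) + 1) := by
  classical
  set d := j + 1 with hdj
  obtain ⟨-, hodd, h2⟩ := odd_torus (F := F) (d := d) (by omega)
  obtain ⟨x, hx⟩ := exists_root_order (F := F) hodd
  set r := Fintype.card F ^ d + 1 with hrdef
  have hr : 0 < r := by omega
  set g := minpoly F x
  have hi : IsIntegral F x := Algebra.IsIntegral.isIntegral x
  have hxr : x ^ r = 1 := hx ▸ pow_orderOf_eq_one x
  have hx0 : x ≠ 0 := fun e => by rw [e, zero_pow hr.ne'] at hxr; exact zero_ne_one hxr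
  have hinv : x ^ Fintype.card F ^ d = x⁻¹ := eq_inv_of_mul_eq_one_left (by rw [← pow_succ, hxr])
  have hdvd : g.natDegree ∣ 2 * d := natDegree_dvd (by rw [two_mul, pow_add, pow_mul, hinv, inv_pow, hinv, inv_inv])
  have hgt : d < g.natDegree := by
    by_contra hlt
    have h1 : r ≤ Fintype.card F ^ g.natDegree - 1 := Nat.le_of_dvd ?_ (card_pow_natDegree hx hr)
    · have : Fintype.card F ^ g.natDegree ≤ Fintype.card F ^ d := Nat.pow_le_pow_right (Fintype.card_pos (α := F)) (not_lt.mp hlt)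
      rw [hrdef] at h1
      omega
    · exact Nat.sub_pos_of_lt (Nat.one_lt_pow (show g.natDegree ≠ 0 from (minpoly.natDegree_pos hi).ne') Fintype.one_lt_card)
  have hdeg : g.natDegree = 2 * d := by
    obtain ⟨c, hc⟩ := hdvd
    rcases c with _ | _ | c
    · omega
    · omega
    · exfalso
      have : g.natDegree * 2 ≤ g.natDegree * (c + 1 + 1) := Nat.mul_le_mul_left _ (by omega)
      omega
  have hirr := minpoly.irreducible hi
  have hx' : aeval x⁻¹ g = 0 := by
    have hroot : aeval x g = 0 := minpoly.aeval F x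
    have e : aeval (x ^ Fintype.card F ^ d) g = 0 := by
      have hstep : ∀ m : ℕ, aeval (x ^ Fintype.card F ^ m) g = 0 := fun m => by
        induction m with
        | zero => rwa [pow_zero, pow_one]
        | succ m ih => rw [pow_succ, pow_mul, ← expand_aeval, FiniteField.expand_card, map_pow, ih,
            zero_pow Fintype.card_ne_zero]
      exact hstep d
    rwa [hinv] at e
  have h0 : g.coeff 0 ≠ 0 := minpoly.coeff_zero_ne_zero hi hx0
  have hrevd : g.reverse.natDegree = 2 * d := by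
    rw [reverse_natDegree, hdeg, natTrailingDegree_eq_zero.mpr (Or.inr h0), Nat.sub_zero]
  have hrev0 : g.reverse.coeff 0 = 1 := by rw [coeff_zero_reverse]; exact minpoly.monic hi
  obtain ⟨c, hc⟩ : g ∣ g.reverse := minpoly.dvd F x (by
    haveI : Invertible (x⁻¹) := invertibleOfNonzero (inv_ne_zero hx0)
    have hinj := (algebraMap F (AlgebraicClosure F)).injective
    have := (Polynomial.eval₂_reverse_eq_zero_iff (algebraMap F (AlgebraicClosure F)) (x⁻¹) g).mpr hx'
    rwa [invOf_eq_inv, inv_inv] at this)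
  have hg0 : g ≠ 0 := minpoly.ne_zero hi
  have hc0 : c ≠ 0 := fun e => by simp [e] at hc; rw [hc] at hrev0; simp at hrev0
  have hcd : c.natDegree = 0 := by
    have := congrArg natDegree hc
    rw [natDegree_mul hg0 hc0, hrevd, hdeg] at this
    omega
  obtain ⟨γ, rfl⟩ := natDegree_eq_zero.mp hcd
  have hlead : g.coeff (2 * d) = 1 := by rw [← hdeg]; exact (minpoly.monic hi).coeff_natDegree
  have hγ1 : g.coeff 0 * γ = 1 := by
    have := congrArg (fun P => P.coeff 0) hc
    simp only [hrev0, mul_coeff_zero, coeff_C_zero] at this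
    exact this.symm
  have hγ2 : g.coeff 0 = γ := by
    have := congrArg (fun P => P.coeff (2 * d)) hc
    simp only [coeff_reverse, hdeg, revAt_le le_rfl, Nat.sub_self, coeff_mul_C, hlead, one_mul] at this
    exact this
  have hγ : γ = 1 := by
    rw [hγ2] at hγ1
    rcases mul_self_eq_one_iff.mp hγ1 with e | e
    · exact e
    · rw [e, CharTwo.neg_eq]
  rw [hγ, map_one, mul_one] at hc
  rw [hγ] at hγ2
  have heval : g.eval 1 ≠ 0 := by
    exact hirr.not_isRoot_of_natDegree_ne_one (by show g.natDegree ≠ 1; omega)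
  obtain ⟨Q, hQ, T, hT, hTr, hTc⟩ := real_self (p := 2) hr hodd g (minpoly.monic hi) hdeg hγ2 hc heval
    fun P hP hPg => ((hP.associated_of_dvd hirr hPg).dvd).trans (minpoly.dvd F x (by simp [hxr]))
  have hord : Tor (⇑Q) r := ⟨T, hT, hTr, fun n hn => hx ▸ eigen_dvd_of_minpoly T hTc.symm.dvd hn⟩
  rcases classify_even Q hQ (k := d) (by simp; omega) a b hab with hp | ⟨j', hj', hm⟩
  · exfalso
    obtain ⟨s, hs, hsr⟩ := Nat.exists_prime_and_dvd (show r ≠ 1 from fun e => absurd e (by rw [hrdef]; have := pow_pos (Fintype.card_pos (α := F)) d; omega))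
    obtain ⟨t, ht⟩ := hsr
    have hs2 : s ≠ 2 := fun e => by
      rw [e] at ht
      exact Nat.not_even_iff_odd.mpr hodd ⟨t, by omega⟩
    have ht0 : 0 < t := Nat.pos_of_ne_zero fun e => by rw [e, mul_zero] at ht; omega
    have hxt : x ^ t ≠ 1 := fun e => by
      have := Nat.le_of_dvd ht0 (hx ▸ orderOf_dvd_of_pow_eq_one e)
      have := Nat.mul_le_mul_right t hs.two_le
      omega
    have hfpf : ∀ v, (T ^ t) v = v → v = 0 := by
      intro v hv
      have hco : IsCoprime g (X ^ t - 1) := hirr.coprime_iff_not_dvd.mpr fun h => hxt (by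
        have := aeval_eq_zero_of_dvd_aeval_eq_zero h (minpoly.aeval F x)
        simpa [sub_eq_zero] using this)
      obtain ⟨u, w, huw⟩ := hco
      have e := LinearMap.congr_fun (congrArg (aeval T) huw) v
      rw [map_add, map_mul, map_mul, ← hTc, T.aeval_self_charpoly, mul_zero, zero_add, map_sub, map_pow, aeval_X,
        map_one, Module.End.mul_apply, LinearMap.sub_apply, Module.End.one_apply, hv, sub_self, map_zero] at e
      exact e.symm
    have h1 : (T ^ t).charpoly.eval 1 ≠ 0 := fun h => by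
      obtain ⟨v, hv⟩ := (Module.End.hasEigenvalue_iff_isRoot_charpoly (T ^ t) 1).mpr h |>.exists_hasEigenvector
      exact hv.2 (hfpf v (by simpa using hv.apply_eq_smul))
    have hreal : Real s (⇑Q) (T ^ t).charpoly := by
      refine ⟨T ^ t, fun y => ?_, by rw [← pow_mul, mul_comm, ← ht, hTr], rfl⟩
      have : ∀ (m : ℕ), Q ((T ^ m) y) = Q y := fun m => by
        induction m with
        | zero => rfl
        | succ m ih => rw [pow_succ', Module.End.mul_apply, hT, ih]
      exact this t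
    have hpar := plus_parity hs (Real.of_iso hp hreal) h1
    haveI := Fact.mk hs
    have hq1 : (((Fintype.card F : ℕ) : ZMod s)) ^ d = -1 := by
      refine eq_neg_of_add_eq_zero_left ?_
      rw [← Nat.cast_pow, ← Nat.cast_one, ← Nat.cast_add, ← hrdef, ht, Nat.cast_mul, ZMod.natCast_self, zero_mul]
    rw [hq1] at hpar
    have h2s : (2 : ZMod s) ≠ 0 := by
      intro e
      have := (ZMod.natCast_eq_zero_iff 2 s).mp (by simpa using e)
      rcases (Nat.dvd_prime Nat.prime_two).mp this with e | e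
      · exact hs.ne_one e
      · exact hs2 e
    rcases mul_eq_zero.mp hpar with e | e
    · exact h2s (by linear_combination -e)
    · refine h2s ?_
      have e1 : ((Fintype.card F : ℕ) : ZMod s) = 1 := by linear_combination e
      rw [e1, one_pow] at hq1
      linear_combination hq1
  · obtain rfl : j' = j := by omega
    exact hord.of_iso hm

end Tori

end CfsgLib.Spectrum.SpEight
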