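import Cfsg.Agent.Lib.Spectrum.SpEight.Upper
import Cfsg.Agent.Lib.Spectrum.SpEight.Blocks
import Cfsg.Agent.Lib.Classical.OrthDickson
import Cfsg.Agent.Lib.Spectrum.PSpFour.Witness
import Cfsg.Agent.Lib.Spectrum.PSpFour.Even

/-!
The element orders of the symplectic group of dimension eight and of the orthogonal group of minus type in even characteristic.
-/

set_option autoImplicit false
set_option linter.unusedSectionVars false
set_option linter.style.haveILetI false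
set_option linter.style.longLine false
set_option maxHeartbeats 800000

namespace CfsgLib.Spectrum.SpEight

open Module CfsgLib.Orth CfsgLib.Classical.OrthModels
open scoped Matrix

section General

variable {F : Type*} [Field F] {ι : Type} [Fintype ι] [DecidableEq ι] {Q : QuadraticForm F (ι → F)}

theorem exists_grp (T : Module.End F (ι → F)) (hT : ∀ x, Q (T x) = Q x) {N : ℕ} (hN : N ≠ 0) (h : T ^ N = 1) :
    ∃ g : Grp Q, Matrix.toLin' ((g : GL ι F) : Matrix ι ι F) = T := by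
  have hM : (LinearMap.toMatrix' T) ^ N = 1 := by
    rw [← LinearMap.toMatrix'_one, ← h]
    exact (map_pow (LinearMap.toMatrixAlgEquiv' : Module.End F (ι → F) ≃ₐ[F] Matrix ι ι F) T N).symm
  refine ⟨⟨Units.ofPowEqOne _ N hM hN, fun u _ => ?_⟩, ?_⟩
  · show Q (LinearMap.toMatrix' T *ᵥ u) = Q u
    rw [← Matrix.toLin'_apply, Matrix.toLin'_toMatrix', hT]
  · exact Matrix.toLin'_toMatrix' T

/-- The action of the isometry group. -/
def toEnd (Q : QuadraticForm F (ι → F)) : Grp Q →* Module.End F (ι → F) :=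
  ((Matrix.toLinAlgEquiv' : Matrix ι ι F ≃ₐ[F] _).toMulEquiv.toMonoidHom.comp (Units.coeHom (Matrix ι ι F))).comp
    (Subgroup.subtype _)

theorem toEnd_apply (g : Grp Q) : toEnd Q g = Matrix.toLin' ((g : GL ι F) : Matrix ι ι F) := rfl

theorem toEnd_injective : Function.Injective (toEnd Q) := fun g h e =>
  Subtype.ext (Units.ext (Matrix.toLin'.injective e))

theorem dickson_eq_one_iff (hB : Nondeg Q) (g : Grp Q) :
    dickson hB g = 1 ↔ Even (finrank F (ι → F) + finrank F (LinearMap.ker (toEnd Q g - 1))) := by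
  have hk : fixSpace g = LinearMap.ker (toEnd Q g - 1) := by
    ext x
    rw [mem_fixSpace, LinearMap.mem_ker, LinearMap.sub_apply, sub_eq_zero]
    rfl
  show (-1 : ℤˣ) ^ _ = 1 ↔ _
  rw [hk, neg_one_pow_eq_one_iff_even (by decide)]

theorem dickson_odd (hB : Nondeg Q) {g : Grp Q} {r : ℕ} (hr : Odd r) (h : g ^ r = 1) : dickson hB g = 1 := by
  have := congrArg (dickson hB) h
  rw [map_pow, map_one] at this
  rcases Int.units_eq_one_or (dickson hB g) with e | e
  · exact e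
  · rw [e, hr.neg_one_pow] at this
    exact absurd this (by decide)

variable [CharP F 2]

theorem sum_pow_mul {V : Type*} [AddCommGroup V] [Module F V] (U : Module.End F V) {n c : ℕ} (hU : U ^ n = 1) (hc : Odd c) :
    ∑ i ∈ Finset.range (c * n), U ^ i = ∑ i ∈ Finset.range n, U ^ i := by
  have h : ∀ c : ℕ, ∑ i ∈ Finset.range (c * n), U ^ i = c • ∑ i ∈ Finset.range n, U ^ i := fun c => by
    induction c with
    | zero => simp
    | succ c ih =>
      rw [add_mul, one_mul, Finset.sum_range_add, ih, succ_nsmul]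
      congr 1
      refine Finset.sum_congr rfl fun i _ => ?_
      rw [pow_add, mul_comm c n, pow_mul, hU, one_pow, one_mul]
  rw [h c]
  obtain ⟨m, rfl⟩ := hc
  rw [← Nat.cast_smul_eq_nsmul F]
  push_cast
  rw [CharTwo.two_eq_zero, zero_mul, zero_add, one_smul]

variable {V W : Type*} [AddCommGroup V] [Module F V] [FiniteDimensional F V] [AddCommGroup W] [Module F W]
  [FiniteDimensional F W]

theorem tor_elem {r : ℕ} (hr : r ≠ 0) (hT : Tor (⇑Q) r) :
    ∃ g : Grp Q, g ^ r = 1 ∧ orderOf g = r := by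
  obtain ⟨T, hT, hTr, hn⟩ := hT
  obtain ⟨g, hg⟩ := exists_grp T hT hr hTr
  rw [← toEnd_apply] at hg
  have ho : orderOf g = r := by
    rw [← orderOf_injective _ toEnd_injective g, hg]
    exact Nat.dvd_antisymm (orderOf_dvd_of_pow_eq_one hTr) (hn _ (pow_orderOf_eq_one T))
  exact ⟨g, ho ▸ pow_orderOf_eq_one g, ho⟩

theorem mixed_elem {P : V → F} {P' : W → F} (hI : Iso (add P P') ⇑Q) {r a : ℕ} (hr : r ≠ 0) (hodd : Odd r)
    (hT : Tor P r) (hU : Uni P' a) : ∃ g : Grp Q, 2 ^ a * r ∣ orderOf g := by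
  obtain ⟨T, hT, hTr, hn⟩ := hT
  obtain ⟨U, hU, hn'⟩ := hU
  obtain ⟨e, he⟩ := hI
  set S : Module.End F (V × W) := LinearMap.prodMapRingHom F V W (T, U)
  have hS : ∀ x, add P P' (S x) = add P P' x := fun x => by
    show P (T x.1) + P' (U x.2) = _
    rw [hT, hU]; rfl
  have hp : S ^ (r * 2 ^ a) = 1 := by
    rw [← map_pow, Prod.pow_mk, pow_mul, hTr, one_pow, mul_comm, pow_mul, (hn' _).mpr dvd_rfl, one_pow]
    exact map_one _
  obtain ⟨g, hg⟩ := exists_grp (Q := Q) (N := r * 2 ^ a) (e.conjRingEquiv S) (fun x => by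
    show Q (e (S (e.symm x))) = _
    rw [he, hS, ← he, e.apply_symm_apply]) (mul_ne_zero hr (by positivity)) (by rw [← map_pow, hp, map_one])
  rw [← toEnd_apply] at hg
  refine ⟨g, ?_⟩
  rw [← orderOf_injective _ toEnd_injective g, hg]
  have h1 : S ^ orderOf (e.conjRingEquiv S) = 1 := by
    have := pow_orderOf_eq_one (e.conjRingEquiv S)
    rw [← map_pow] at this
    exact (map_eq_one_iff e.conjRingEquiv e.conjRingEquiv.injective).mp this
  rw [← map_pow] at h1
  refine Nat.Coprime.mul_dvd_of_dvd_of_dvd (Nat.Coprime.pow_left a (Nat.coprime_two_left.mpr hodd)) ?_ (hn _ ?_)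
  · exact (hn' _).mp (LinearMap.ext fun x => congrArg Prod.snd (LinearMap.congr_fun h1 (0, x)))
  · exact LinearMap.ext fun x => congrArg Prod.fst (LinearMap.congr_fun h1 (x, 0))

theorem even_elem (hB : Nondeg Q) {P : V → F} {P' : W → F} (hI : Iso (add P P') ⇑Q) {r a d : ℕ} (hr : r ≠ 0)
    (hodd : Odd r) (hT : Tor P r) (hU : Ev P' a d) (hdim : Even (finrank F (ι → F))) (hV : Even (finrank F V))
    (hd : Even d) :
    ∃ g : Grp Q, dickson hB g = 1 ∧ orderOf g = r * 2 ^ a ∧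
      ∑ i ∈ Finset.range (orderOf g), toEnd Q g ^ i ≠ 0 := by
  have hP' := hU.uni
  obtain ⟨T, hT, hTr, hn⟩ := hT
  obtain ⟨U, hU, hUa, hs, hdU⟩ := hU
  have hUn : ∀ n, U ^ n = 1 → 2 ^ a ∣ n := by
    intro n h
    rw [← orderOf_dvd_iff_pow_eq_one] at h
    refine dvd_trans ?_ h
    rcases a with _ | a
    · exact one_dvd _
    haveI := Fact.mk Nat.prime_two
    rw [orderOf_eq_prime_pow (fun h1 => hs ?_) hUa]
    rw [pow_succ, mul_two, Finset.sum_range_add]
    simp only [pow_add, h1, one_mul]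
    refine LinearMap.ext fun x => ?_
    rw [← two_smul F, CharTwo.two_eq_zero, zero_smul]
  obtain ⟨e, he⟩ := hI
  let Φ : Module.End F V × Module.End F W →* Module.End F (ι → F) :=
    (e.conjRingEquiv : Module.End F (V × W) ≃+* _).toMonoidHom.comp (LinearMap.prodMapRingHom F V W).toMonoidHom
  have hΦ : ∀ p x, Φ p x = e (p.1 (e.symm x).1, p.2 (e.symm x).2) := fun _ _ => rfl
  have hiso : ∀ p : Module.End F V × Module.End F W, (∀ x, P (p.1 x) = P x) → (∀ x, P' (p.2 x) = P' x) →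
      ∀ x, Q (Φ p x) = Q x := by
    intro p h1 h2 x
    rw [hΦ, he]
    show P (p.1 _) + P' (p.2 _) = _
    rw [h1, h2]
    show add P P' (e.symm x) = _
    rw [← he, e.apply_symm_apply]
  obtain ⟨g₁, hg₁⟩ := exists_grp (Q := Q) (Φ (T, 1)) (hiso _ hT fun _ => rfl) hr (by rw [← map_pow, Prod.pow_mk, hTr, one_pow]; exact map_one Φ)
  obtain ⟨g₂, hg₂⟩ := exists_grp (Q := Q) (N := 2 ^ a) (Φ (1, U)) (hiso _ (fun _ => rfl) hU) (by positivity)
    (by rw [← map_pow, Prod.pow_mk, hUa, one_pow]; exact map_one Φ)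
  rw [← toEnd_apply] at hg₁ hg₂
  have hg : toEnd Q (g₁ * g₂) = Φ (T, U) := by rw [map_mul, hg₁, hg₂, ← map_mul, Prod.mk_mul_mk, mul_one, one_mul]
  have hΦi : Function.Injective Φ := fun p p' h => by
    have h' := e.conjRingEquiv.injective h
    exact Prod.ext (LinearMap.ext fun x => congrArg Prod.fst (LinearMap.congr_fun h' (x, 0)))
      (LinearMap.ext fun x => congrArg Prod.snd (LinearMap.congr_fun h' (0, x)))
  have ho : orderOf (g₁ * g₂) = r * 2 ^ a := by
    rw [← orderOf_injective _ toEnd_injective, hg, orderOf_injective Φ hΦi, Prod.orderOf]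
    have e1 : orderOf T = r := Nat.dvd_antisymm (orderOf_dvd_of_pow_eq_one hTr) (hn _ (pow_orderOf_eq_one T))
    have e2 : orderOf U = 2 ^ a := Nat.dvd_antisymm (orderOf_dvd_of_pow_eq_one hUa) (hUn _ (pow_orderOf_eq_one U))
    rw [e1, e2]
    exact Nat.Coprime.lcm_eq_mul ((Nat.coprime_two_right.mpr hodd).pow_right a)
  refine ⟨g₁ * g₂, ?_, ho, ?_⟩
  · rw [map_mul, dickson_odd hB hodd (toEnd_injective (by rw [map_pow, hg₁, ← map_pow, Prod.pow_mk, hTr, one_pow, map_one]; exact map_one Φ)), one_mul,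
      dickson_eq_one_iff hB, hg₂]
    have hk : LinearMap.ker (Φ (1, U) - 1) =
        ((⊤ : Submodule F V).prod (LinearMap.ker (U - 1))).map (e : (V × W) →ₗ[F] (ι → F)) := by
      ext x
      rw [Submodule.mem_map_equiv, Submodule.mem_prod, LinearMap.mem_ker, LinearMap.mem_ker, LinearMap.sub_apply,
        LinearMap.sub_apply, sub_eq_zero, sub_eq_zero, hΦ]
      simp only [Module.End.one_apply, Submodule.mem_top, true_and]
      rw [← LinearEquiv.eq_symm_apply]
      exact ⟨fun h => congrArg Prod.snd h, fun h => Prod.ext rfl h⟩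
    let e' : ((⊤ : Submodule F V).prod (LinearMap.ker (U - 1)) : Submodule F (V × W)) ≃ₗ[F]
        V × LinearMap.ker (U - 1) :=
      { toFun := fun x => (x.1.1, ⟨x.1.2, x.2.2⟩)
        invFun := fun x => ⟨(x.1, x.2.1), trivial, x.2.2⟩
        map_add' := fun _ _ => rfl
        map_smul' := fun _ _ => rfl
        left_inv := fun _ => rfl
        right_inv := fun _ => rfl }
    rw [hk, LinearEquiv.finrank_map_eq, e'.finrank_eq, Module.finrank_prod, hdU]
    exact hdim.add (hV.add hd)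
  · rw [ho, hg]
    simp only [← map_pow, Prod.pow_mk]
    intro h0
    refine hs ?_
    rw [← sum_pow_mul U hUa hodd]
    refine LinearMap.ext fun x => ?_
    have h1 := LinearMap.congr_fun h0 (e (0, x))
    simp only [LinearMap.sum_apply, hΦ, e.symm_apply_apply, map_zero, LinearMap.zero_apply] at h1
    rw [← map_sum, map_eq_zero_iff e e.injective] at h1
    have := congrArg Prod.snd h1
    rw [Prod.snd_sum] at this
    rw [LinearMap.sum_apply]
    exact this

theorem charpoly_props (hB : Nondeg Q) (g : Grp Q) :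
    ((g : GL ι F) : Matrix ι ι F).charpoly.coeff 0 = 1 ∧
      ((g : GL ι F) : Matrix ι ι F).charpoly.reverse = ((g : GL ι F) : Matrix ι ι F).charpoly := by
  set M := ((g : GL ι F) : Matrix ι ι F)
  have ht := CfsgLib.Classical.OrthPrimeReal.tw_charpoly Q hB g g.2
  have h0 : M.charpoly.coeff 0 ≠ 0 := by
    intro h
    have := M.det_eq_sign_charpoly_coeff
    rw [h, mul_zero] at this
    exact (Matrix.isUnit_iff_isUnit_det M).mp (g : GL ι F).isUnit |>.ne_zero this
  have h1 : M.charpoly.coeff 0 = 1 := by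
    have e := CfsgLib.Classical.UnitaryTwistPoly.coeff_zero_tw (RingHom.id F) M.charpoly_monic h0
    rw [ht, RingHom.id_apply] at e
    have h2 : M.charpoly.coeff 0 * M.charpoly.coeff 0 = 1 := by nth_rw 2 [e]; exact mul_inv_cancel₀ h0
    rcases mul_self_eq_one_iff.mp h2 with e' | e'
    · exact e'
    · rw [e', CharTwo.neg_eq]
  refine ⟨h1, ?_⟩
  rwa [CfsgLib.Classical.UnitaryTwistPoly.tw, RingHom.id_apply, Polynomial.map_id, h1, inv_one, map_one, one_mul] at ht

end General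

section Minus

variable {F : Type*} [Field F] [Fintype F] [CharP F 2]

local notation "q" => Fintype.card F

theorem coprime_facts :
    (q ^ 2 + 1).Coprime (q ^ 2 - 1) ∧ (q ^ 3 - 1).Coprime (q + 1) ∧ (q ^ 3 + 1).Coprime (q - 1) ∧
      (q ^ 2 + 1).Coprime (q - 1) ∧ (q ^ 2 + 1).Coprime (q + 1) := by
  obtain ⟨k, hk, hq⟩ := card_even (F := F)
  have h2 : 2 ∣ q := hq ▸ dvd_pow_self 2 hk
  have hq1 : 1 ≤ q := Fintype.card_pos
  have key : ∀ x y : ℕ, Odd y → (∀ d : ℕ, d ∣ x → d ∣ y → d ∣ 2) → x.Coprime y := by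
    intro x y hy h
    refine Nat.coprime_of_dvd fun d hd hdx hdy => ?_
    have := (Nat.prime_dvd_prime_iff_eq hd Nat.prime_two).mp (h d hdx hdy)
    subst this
    exact Nat.not_even_iff_odd.mpr hy (even_iff_two_dvd.mpr hdy)
  have ho : Odd (q + 1) ∧ Odd (q - 1) := by
    obtain ⟨c, hc⟩ := h2
    exact ⟨⟨c, by omega⟩, ⟨c - 1, by omega⟩⟩
  have e21 : (q - 1) ∣ q ^ 2 - 1 := by simpa using Nat.sub_dvd_pow_sub_pow q 1 2
  have e31 : (q - 1) ∣ q ^ 3 - 1 := by simpa using Nat.sub_dvd_pow_sub_pow q 1 3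
  have e22 : (q + 1) ∣ q ^ 2 - 1 := ⟨q - 1, by rw [← Nat.sq_sub_sq, one_pow]⟩
  have p2 : 1 ≤ q ^ 2 := Nat.one_le_pow _ _ hq1
  have p3 : 1 ≤ q ^ 3 := Nat.one_le_pow _ _ hq1
  have big2 : ∀ {d}, d ∣ q ^ 2 + 1 → d ∣ q ^ 2 - 1 → d ∣ 2 := fun {d} h h' => by
    have := Nat.dvd_sub h h'
    rwa [show q ^ 2 + 1 - (q ^ 2 - 1) = 2 by omega] at this
  have h31 : q + 1 ∣ q ^ 3 + 1 := by simpa using (by decide : Odd 3).nat_add_dvd_pow_add_pow q 1
  refine ⟨?_, key _ _ ho.1 fun d h h' => ?_, key _ _ ho.2 fun d h h' => ?_,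
    key _ _ ho.2 fun d h h' => big2 h (h'.trans e21), key _ _ ho.1 fun d h h' => big2 h (h'.trans e22)⟩
  · exact key _ _ (odd_torus (F := F) two_ne_zero).1 fun d h h' => big2 h h'
  · have := Nat.dvd_sub (h'.trans h31) h
    rwa [show q ^ 3 + 1 - (q ^ 3 - 1) = 2 by omega] at this
  · have := Nat.dvd_sub h (h'.trans e31)
    rwa [show q ^ 3 + 1 - (q ^ 3 - 1) = 2 by omega] at this

variable {a b : F} (hab : ∀ z₁ z₂ : F, z₁ ^ 2 + a * z₁ * z₂ + b * z₂ ^ 2 = 0 → z₁ = 0 ∧ z₂ = 0)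

/-- The orders realised in the kernel of the Dickson invariant, possibly after doubling. -/
def Good {ι : Type} [Fintype ι] [DecidableEq ι] (Q : QuadraticForm F (ι → F)) (hB : Nondeg Q) (n : ℕ) : Prop :=
  (∃ g : Grp Q, dickson hB g = 1 ∧ n ∣ orderOf g) ∨
    ∃ g : Grp Q, dickson hB g = 1 ∧ ∑ i ∈ Finset.range (orderOf g), toEnd Q g ^ i ≠ 0 ∧ n ∣ orderOf g * 2

include hab in
theorem lower {Q : QuadraticForm F ((Fin 3 ⊕ Fin 3) ⊕ Fin 2 → F)} (hQ : ⇑Q = Cfsg.quadFormMinus 3 F a b)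
    (hB : Nondeg Q) (T : Fin 12) :
    (∃ g : Grp Q, 2 ^ (target T).1 * big q T ∣ orderOf g) ∧ Good Q hB (2 ^ (target T).1 * big q T) := by
  obtain ⟨hc22, hc31, hc31', hc2m, hc2p⟩ := coprime_facts (F := F)
  have P : ∀ d, d ≠ 0 → Tor (Cfsg.quadFormPlus d F) (q ^ d - 1) := fun d hd => tor_plus hd
  have M : ∀ j, Tor (Cfsg.quadFormMinus j F a b) (q ^ (j + 1) + 1) := tor_minus hab
  have P1 : Tor (Cfsg.quadFormPlus 1 F) (q - 1) := by simpa using P 1 one_ne_zero
  have M0 : Tor (Cfsg.quadFormMinus 0 F a b) (q + 1) := by simpa using M 0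
  have hdim : Even (finrank F ((Fin 3 ⊕ Fin 3) ⊕ Fin 2 → F)) := by simp; decide
  obtain ⟨o1, o1', -⟩ := odd_torus (F := F) (d := 1) one_ne_zero
  rw [pow_one] at o1 o1'
  obtain ⟨o2, o2', -⟩ := odd_torus (F := F) (d := 2) two_ne_zero
  obtain ⟨o3, o3', -⟩ := odd_torus (F := F) (d := 3) (by norm_num)
  have e4 : q ^ 4 - 1 = (q ^ 2 + 1) * (q ^ 2 - 1) := by rw [← Nat.sq_sub_sq, one_pow, ← pow_mul]
  -- the split of the ambient space
  have i0 : Iso (add (Cfsg.quadFormMinus 1 F a b) (Cfsg.quadFormPlus 2 F)) ⇑Q :=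
    hQ ▸ (Iso.sum_comm _ _).trans (plus_minus 2 1 a b)
  have i1 : Iso (add (Cfsg.quadFormPlus 2 F) (Cfsg.quadFormMinus 1 F a b)) ⇑Q := hQ ▸ plus_minus 2 1 a b
  have i2 : Iso (add (Cfsg.quadFormPlus 3 F) (Cfsg.quadFormMinus 0 F a b)) ⇑Q := hQ ▸ plus_minus 3 0 a b
  have i3 : Iso (add (Cfsg.quadFormMinus 2 F a b) (Cfsg.quadFormPlus 1 F)) ⇑Q :=
    hQ ▸ (Iso.sum_comm _ _).trans (plus_minus 1 2 a b)
  have i4 : Iso (add (Cfsg.quadFormPlus 1 F) (Cfsg.quadFormMinus 2 F a b)) ⇑Q := hQ ▸ plus_minus 1 2 a b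
  have i5 : Iso (add (Cfsg.quadFormMinus 0 F a b) (Cfsg.quadFormPlus 3 F)) ⇑Q :=
    hQ ▸ (Iso.sum_comm _ _).trans (plus_minus 3 0 a b)
  have i6 : Iso (add (Cfsg.quadFormMinus 1 F a b) (Cfsg.quadFormPlus 1 F)) (Cfsg.quadFormMinus 2 F a b) :=
    (Iso.sum_comm _ _).trans (plus_minus 1 1 a b)
  have i7 : Iso (add (Cfsg.quadFormMinus 1 F a b) (Cfsg.quadFormMinus 0 F a b)) (Cfsg.quadFormPlus 3 F) :=
    minus_minus 1 0 a b hab
  -- the unipotent parts
  have eP1 := ev_plus_one (F := F)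
  have eM0 := ev_minus_zero hab
  have eP2 : Ev (Cfsg.quadFormPlus 2 F) 1 2 := (eP1.sum le_rfl eP1).of_iso (plus_plus 1 1)
  have eM1 : Ev (Cfsg.quadFormMinus 1 F a b) 1 2 := (eP1.sum le_rfl eM0).of_iso (plus_minus 1 0 a b)
  have eP3 : Ev (Cfsg.quadFormPlus 3 F) 2 2 := ((ev_plus_two (F := F)).sum (by norm_num) eP1).of_iso (plus_plus 2 1)
  have eM2 : Ev (Cfsg.quadFormMinus 2 F a b) 2 2 :=
    ((ev_plus_two (F := F)).sum (by norm_num) eM0).of_iso (plus_minus 2 0 a b)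
  have zP1 : Ev (Cfsg.quadFormPlus 1 F) 0 2 := by simpa using ev_one (Cfsg.quadFormPlus 1 F)
  have zM0 : Ev (Cfsg.quadFormMinus 0 F a b) 0 2 := by simpa using ev_one (Cfsg.quadFormMinus 0 F a b)
  have pure : ∀ N : ℕ, Odd N → Tor (⇑Q) N →
      (∃ g : Grp Q, 2 ^ 0 * N ∣ orderOf g) ∧ Good Q hB (2 ^ 0 * N) := by
    intro N hN h
    obtain ⟨g, h1, h2⟩ := tor_elem hN.pos.ne' h
    exact ⟨⟨g, by rw [h2, pow_zero, one_mul]⟩, Or.inl ⟨g, dickson_odd hB hN h1, by rw [h2, pow_zero, one_mul]⟩⟩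
  have double : ∀ {V W : Type _} [AddCommGroup V] [Module F V] [FiniteDimensional F V] [AddCommGroup W] [Module F W]
      [FiniteDimensional F W] {R : V → F} {R' : W → F}, Iso (add R R') ⇑Q → ∀ {N c : ℕ}, Odd N → Tor R N →
      Uni R' (c + 1) → Ev R' c 2 → Even (finrank F V) →
      (∃ g : Grp Q, 2 ^ (c + 1) * N ∣ orderOf g) ∧ Good Q hB (2 ^ (c + 1) * N) := by
    intro V W _ _ _ _ _ _ R R' hI N c hN hT hU hE hV
    refine ⟨mixed_elem hI hN.pos.ne' hN hT hU, Or.inr ?_⟩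
    obtain ⟨g, h1, h2, h3⟩ := even_elem hB hI hN.pos.ne' hN hT hE hdim hV even_two
    exact ⟨g, h1, h3, by rw [h2, pow_succ]; exact dvd_of_eq (by ring)⟩
  fin_cases T <;> simp [target, big]
  · simpa using pure _ (odd_torus (F := F) (d := 4) (by norm_num)).2.1 (hQ ▸ M 3)
  · rw [e4]
    simpa using pure _ (o2'.mul o2) (((M 1).sum hc22 (P 2 two_ne_zero)).of_iso i0)
  · simpa using pure _ (o3.mul o1') (((P 3 (by norm_num)).sum hc31 M0).of_iso i2)
  · simpa using pure _ (o3'.mul o1) (((M 2).sum hc31' P1).of_iso i3)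
  · simpa using double i2 (c := 0) o3 (P 3 (by norm_num)) eM0.uni zM0 (by simp; decide)
  · simpa using double i3 (c := 0) o3' (M 2) eP1.uni zP1 (by simp; decide)
  · simpa using double i3 (c := 0) (o2'.mul o1) (((M 1).sum hc2m P1).of_iso i6) eP1.uni zP1 (by simp; decide)
  · simpa using double i2 (c := 0) (o2'.mul o1') (((M 1).sum hc2p M0).of_iso i7) eM0.uni zM0 (by simp; decide)
  · simpa using double i1 (c := 1) o2 (P 2 two_ne_zero) (ev_minus_one hab).uni eM1 (by simp; decide)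
  · simpa using double i0 (c := 1) o2' (M 1) (ev_plus_two (F := F)).uni eP2 (by simp; decide)
  · simpa using double i4 (c := 2) o1 P1 (uni_minus_two hab) eM2 (by simp)
  · simpa using double i5 (c := 2) o1' M0 (uni_plus_three (F := F)) eP3 (by simp)

end Minus

end CfsgLib.Spectrum.SpEight
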