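import Cfsg.Agent.Lib.Spectrum.SpEight.Groups
import Cfsg.Agent.Lib.FormRep.Symplectic

/-!
The spectra of `PSp(8, q)` and `GO⁻(8, q)` in even characteristic, and groups with the same spectrum.
-/

set_option autoImplicit false
set_option linter.unusedSectionVars false
set_option linter.style.haveILetI false
set_option linter.style.longLine false

namespace CfsgLib.Spectrum.SpEight

open Module CfsgLib.Orth
open scoped Matrix

variable {F : Type*} [Field F] [Fintype F] [CharP F 2]

local notation "q" => Fintype.card F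

theorem psp_mk_injective :
    Function.Injective (QuotientGroup.mk' (Subgroup.center (Matrix.symplecticGroup (Fin 4) F))) := by
  refine (injective_iff_map_eq_one _).mpr fun g hg => ?_
  rw [QuotientGroup.mk'_apply, QuotientGroup.eq_one_iff, CfsgLib.FormRep.Symplectic.center_iff] at hg
  obtain ⟨c, hc⟩ := hg
  have hm := SymplecticGroup.mem_iff.mp g.2
  rw [hc] at hm
  have h1 := congrFun (congrFun hm (Sum.inl 0)) (Sum.inr 0)
  have hcc : c * c = 1 := by simpa [Matrix.J, Matrix.transpose_smul, Matrix.smul_mul, Matrix.mul_smul] using h1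
  refine Subtype.ext ?_
  rw [hc]
  rcases mul_self_eq_one_iff.mp hcc with e | e
  · rw [e, one_smul]; rfl
  · rw [e, CharTwo.neg_eq, one_smul]; rfl

section Orth

variable {ι : Type} [Fintype ι] [DecidableEq ι] [Nonempty ι] {Q : QuadraticForm F (ι → F)}

/-- The matrices of the isometry group. -/
def toMat (Q : QuadraticForm F (ι → F)) : Grp Q →* Matrix ι ι F :=
  (Units.coeHom (Matrix ι ι F)).comp (Subgroup.subtype _)

theorem toMat_injective : Function.Injective (toMat Q) := fun _ _ e => Subtype.ext (Units.ext e)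

theorem orth_mem_spec (hB : Nondeg Q) (hd : Fintype.card ι = 8) (g : Grp Q) : orderOf g ∈ spec q := by
  rw [← orderOf_injective _ toMat_injective g]
  exact orderOf_mem_spec _ hd (charpoly_props hB g).1 (charpoly_props hB g).2

theorem orth_double_mem_spec (hB : Nondeg Q) (hd : Fintype.card ι = 8) (g : Grp Q) (hg : dickson hB g = 1)
    (hs : ∑ i ∈ Finset.range (orderOf g), toMat Q g ^ i ≠ 0) : orderOf g * 2 ∈ spec q := by
  rw [← orderOf_injective _ toMat_injective g] at hs ⊢
  refine two_mul_orderOf_mem_spec _ hd (charpoly_props hB g).1 (charpoly_props hB g).2 hs fun h1 => ?_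
  have he := (dickson_eq_one_iff hB g).mp hg
  have h1' : finrank F (LinearMap.ker (toEnd Q g - 1)) = 1 := h1
  rw [h1', Module.finrank_pi, hd] at he
  exact absurd he (by decide)

end Orth

variable {a b : F} (hab : ∀ z₁ z₂ : F, z₁ ^ 2 + a * z₁ * z₂ + b * z₂ ^ 2 = 0 → z₁ = 0 ∧ z₂ = 0)

include hab in
theorem range_go : Set.range (orderOf : ↥(Cfsg.isometryGroup F (Cfsg.quadFormMinus 3 F a b)) → ℕ) = spec q := by
  obtain ⟨Q, hQ, hB⟩ := exists_quadForm_minus 3 hab
  rw [← hQ]
  refine Set.Subset.antisymm ?_ fun n ⟨T, hn⟩ => ?_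
  · rintro n ⟨g, rfl⟩
    exact orth_mem_spec (Q := Q) hB (by simp) g
  · obtain ⟨⟨g, hg⟩, -⟩ := lower hab hQ hB T
    exact ⟨g ^ (orderOf g / n), orderOf_pow_orderOf_div (orderOf_pos g).ne' (hn.trans hg)⟩

theorem exists_ab : ∃ a b : F, ∀ z₁ z₂ : F, z₁ ^ 2 + a * z₁ * z₂ + b * z₂ ^ 2 = 0 → z₁ = 0 ∧ z₂ = 0 :=
  CfsgLib.Classical.RestrictScalars.exists_ab

theorem range_psp : Set.range (orderOf : Cfsg.PSp 4 F → ℕ) = spec q := by
  refine Set.Subset.antisymm ?_ fun n ⟨T, hn⟩ => ?_
  · rintro n ⟨x, rfl⟩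
    obtain ⟨g, rfl⟩ := QuotientGroup.mk'_surjective _ x
    rw [orderOf_injective _ psp_mk_injective g]
    rw [← orderOf_injective (Submonoid.subtype _) Subtype.val_injective g]
    exact orderOf_mem_spec _ (by simp) (CfsgLib.Classical.SympCompanion.charpoly_palindromic g).1
      (CfsgLib.Classical.SympCompanion.charpoly_palindromic g).2
  · obtain ⟨a, b, hab⟩ := exists_ab (F := F)
    obtain ⟨Q, hQ, hB⟩ := exists_quadForm_minus 3 hab
    obtain ⟨⟨g, hg⟩, -⟩ := lower hab hQ hB T
    have hS : CfsgLib.SympCount.Symp (QuadraticMap.polarBilin Q) := by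
      refine ⟨fun v => ?_, fun v hv => hB v hv⟩
      show QuadraticMap.polar Q v v = 0
      rw [b_self, CharTwo.two_eq_zero, zero_mul]
    obtain ⟨e, he⟩ := CfsgLib.SympCount.exists_isometry (CfsgLib.Classical.SympClasses.symp_sb F 4) hS
      (by simp)
    set S : Module.End F (Fin 4 ⊕ Fin 4 → F) := e.conjRingEquiv (toEnd Q g)
    have hS' : ∀ u v, CfsgLib.Classical.SympClasses.sb F 4 (S u) (S v) = CfsgLib.Classical.SympClasses.sb F 4 u v := by
      intro u v
      show CfsgLib.Classical.SympClasses.sb F 4 (e (ap g (e.symm u))) (e (ap g (e.symm v))) = _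
      rw [he]
      show QuadraticMap.polar Q (ap g (e.symm u)) (ap g (e.symm v)) = _
      rw [ap_b]
      show QuadraticMap.polarBilin Q (e.symm u) (e.symm v) = _
      rw [← he, e.apply_symm_apply, e.apply_symm_apply]
    have hmem : LinearMap.toMatrix' S ∈ Matrix.symplecticGroup (Fin 4) F :=
      CfsgLib.Classical.SympTrans.mem_iff_f.mpr fun u v => by
        rw [← Matrix.toLin'_apply, ← Matrix.toLin'_apply, Matrix.toLin'_toMatrix',
          ← CfsgLib.Classical.SympClasses.sb_apply, ← CfsgLib.Classical.SympClasses.sb_apply]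
        exact hS' u v
    have hn' : n ∣ orderOf (QuotientGroup.mk' (Subgroup.center (Matrix.symplecticGroup (Fin 4) F)) ⟨_, hmem⟩) := by
      rw [orderOf_injective _ psp_mk_injective, ← orderOf_injective (Submonoid.subtype _) Subtype.val_injective]
      show n ∣ orderOf ((LinearMap.toMatrixAlgEquiv' : Module.End F (Fin 4 ⊕ Fin 4 → F) ≃ₐ[F] _) S)
      rw [show orderOf ((LinearMap.toMatrixAlgEquiv' : Module.End F (Fin 4 ⊕ Fin 4 → F) ≃ₐ[F] _) S) = orderOf S from
          MulEquiv.orderOf_eq (LinearMap.toMatrixAlgEquiv' : Module.End F (Fin 4 ⊕ Fin 4 → F) ≃ₐ[F] _).toMulEquiv S,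
        show orderOf S = orderOf (toEnd Q g) from MulEquiv.orderOf_eq e.conjRingEquiv.toMulEquiv _,
        orderOf_injective _ toEnd_injective]
      exact hn.trans hg
    exact ⟨_ ^ (_ / n), orderOf_pow_orderOf_div (orderOf_pos _).ne' hn'⟩

theorem witness {L : Type} [Field L] [Fintype L] [CharP L 2] (N : ℕ) :
    ∃ (H : Type) (_ : Group H) (_ : Fintype H), N < Fintype.card H ∧
      Set.range (orderOf : H → ℕ) = spec (Fintype.card L) := by
  classical
  obtain ⟨a, b, hab⟩ := exists_ab (F := L)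
  obtain ⟨Q, hQ, hB⟩ := exists_quadForm_minus 3 hab
  set X := (dickson hB).ker
  let ρ : X →* Matrix ((Fin 3 ⊕ Fin 3) ⊕ Fin 2) ((Fin 3 ⊕ Fin 3) ⊕ Fin 2) L := (toMat Q).comp X.subtype
  refine PSpFour.exists_witness 2 ρ _ (fun g => ?_) (fun g hg => ?_) (fun n hn => ?_) N
  · rw [← Subgroup.orderOf_coe]
    exact orth_mem_spec hB (by simp) _
  · rw [← Subgroup.orderOf_coe]
    refine orth_double_mem_spec hB (by simp) _ g.2 ?_
    rw [Subgroup.orderOf_coe]
    exact hg
  · obtain ⟨T, hn⟩ := hn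
    rcases (lower hab hQ hB T).2 with ⟨g, h1, h2⟩ | ⟨g, h1, h3, h2⟩
    · exact Or.inl ⟨⟨g, h1⟩, by rw [← Subgroup.orderOf_coe]; exact hn.trans h2⟩
    · refine Or.inr ⟨⟨g, h1⟩, fun h0 => h3 ?_, by rw [← Subgroup.orderOf_coe]; exact hn.trans h2⟩
      have := congrArg (Matrix.toLinAlgEquiv' : Matrix _ _ L ≃ₐ[L] _) h0
      rw [map_zero, PSpFour.tr, map_sum, ← Subgroup.orderOf_coe] at this
      simp only [map_pow] at this
      exact this

end CfsgLib.Spectrum.SpEight
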