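import Mathlib

/-!
The maximal orders in degree eight and the factor shapes they cover.
-/

set_option autoImplicit false

namespace CfsgLib.Spectrum.SpEight

/-- The torus orders. -/
def tor (q : ℕ) (t : ℕ × Bool) : ℕ := if t.2 then q ^ t.1 + 1 else q ^ t.1 - 1

/-- The exponent of the two-part of a maximal order, and the tori below it. -/
def target : Fin 12 → ℕ × List (ℕ × Bool) :=
  ![(0, [(4, true)]), (0, [(4, false), (2, false), (2, true), (1, false), (1, true)]),
    (0, [(3, false), (1, false), (1, true)]), (0, [(3, true), (1, false), (1, true)]),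
    (1, [(3, false), (1, false)]), (1, [(3, true), (1, true)]),
    (1, [(2, true), (1, false)]), (1, [(2, true), (1, true)]),
    (2, [(2, false), (1, false), (1, true)]), (2, [(2, true)]),
    (3, [(1, false)]), (3, [(1, true)])]

/-- The odd part of a maximal order. -/
def big (q : ℕ) : Fin 12 → ℕ :=
  ![q ^ 4 + 1, q ^ 4 - 1, (q ^ 3 - 1) * (q + 1), (q ^ 3 + 1) * (q - 1),
    q ^ 3 - 1, q ^ 3 + 1, (q ^ 2 + 1) * (q - 1), (q ^ 2 + 1) * (q + 1),
    q ^ 2 - 1, q ^ 2 + 1, q - 1, q + 1]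

/-- The set of element orders. -/
def spec (q : ℕ) : Set ℕ := {n | ∃ T : Fin 12, n ∣ 2 ^ (target T).1 * big q T}

theorem tor_dvd {q : ℕ} (hq : 1 ≤ q) (T : Fin 12) {t : ℕ × Bool} (ht : t ∈ (target T).2) : tor q t ∣ big q T := by
  have h2 : q ^ 2 - 1 = (q + 1) * (q - 1) := by rw [← Nat.sq_sub_sq q 1, one_pow]
  have h4 : q ^ 4 - 1 = (q ^ 2 + 1) * ((q + 1) * (q - 1)) := by
    rw [← h2, ← Nat.sq_sub_sq, one_pow, ← pow_mul]
  have h3 : q - 1 ∣ q ^ 3 - 1 := by simpa using Nat.sub_dvd_pow_sub_pow q 1 3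
  have h3' : q + 1 ∣ q ^ 3 + 1 := by
    have := (by decide : Odd 3).nat_add_dvd_pow_add_pow q 1
    simpa using this
  fin_cases T <;> simp [target] at ht <;>
    (try rcases ht with rfl | rfl | rfl | rfl | rfl) <;> (try rcases ht with rfl | rfl | rfl) <;>
    (try rcases ht with rfl | rfl) <;> (try subst ht) <;> simp [tor, big, h2, h4] <;>
    first
    | exact h3'
    | exact h3
    | exact dvd_mul_of_dvd_left h3 _
    | exact dvd_mul_of_dvd_left h3' _
    | exact dvd_mul_of_dvd_right (dvd_mul_left _ _) _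
    | exact dvd_mul_of_dvd_right (dvd_mul_right _ _) _

/-- The weight of a shape. -/
def wt (l : List (ℕ × ℕ × Bool)) : ℕ := (l.map fun i => i.1 * i.2.1).sum

/-- All shapes of weight at most `w`. -/
def shapes : ℕ → ℕ → List (List (ℕ × ℕ × Bool))
  | 0, _ => [[]]
  | fuel + 1, w => [] :: (List.range w).flatMap fun d => (List.range w).flatMap fun e =>
      if (d + 1) * (e + 1) ≤ w then
        ([false, true].flatMap fun b => (shapes fuel (w - (d + 1) * (e + 1))).map fun l => (d + 1, e + 1, b) :: l)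
      else []

theorem mem_shapes : ∀ (fuel w : ℕ) (l : List (ℕ × ℕ × Bool)), wt l ≤ w → w ≤ fuel →
    (∀ i ∈ l, 1 ≤ i.1 ∧ 1 ≤ i.2.1) → l ∈ shapes fuel w := by
  intro fuel
  induction fuel with
  | zero =>
    intro w l hl hw hp
    match l with
    | [] => simp [shapes]
    | i :: l =>
      exfalso
      obtain ⟨h1, h2⟩ := hp i (List.mem_cons_self ..)
      have := Nat.mul_pos h1 h2
      simp [wt] at hl
      omega
  | succ fuel ih =>
    intro w l hl hw hp
    match l with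
    | [] => simp [shapes]
    | (d, e, b) :: l =>
      obtain ⟨h1, h2⟩ : 1 ≤ d ∧ 1 ≤ e := hp (d, e, b) (List.mem_cons_self ..)
      have hl' : d * e + wt l ≤ w := by simpa [wt] using hl
      have hde : 0 < d * e := Nat.mul_pos h1 h2
      have hd : d ≤ d * e := Nat.le_mul_of_pos_right _ h2
      have he : e ≤ d * e := Nat.le_mul_of_pos_left _ h1
      have hin := ih (w - d * e) l (by omega) (by omega) fun i hi => hp i (List.mem_cons_of_mem _ hi)
      refine List.mem_cons_of_mem _ (List.mem_flatMap.mpr ⟨d - 1, List.mem_range.mpr (by omega),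
        List.mem_flatMap.mpr ⟨e - 1, List.mem_range.mpr (by omega), ?_⟩⟩)
      rw [Nat.sub_add_cancel h1, Nat.sub_add_cancel h2, if_pos (by omega)]
      exact List.mem_flatMap.mpr ⟨b, by cases b <;> simp, List.mem_map.mpr ⟨l, hin, rfl⟩⟩

/-- A shape below a maximal order. -/
def covered (e0 : ℕ) (l : List (ℕ × ℕ × Bool)) : Bool :=
  decide (∃ T : Fin 12, 2 * e0 ≤ 2 ^ (target T).1 ∧ ∀ i ∈ l, i.2.1 ≤ 2 ^ (target T).1 ∧ (i.1, i.2.2) ∈ (target T).2)

/-- A shape with one more factor two below a maximal order. -/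
def covered' (a : ℕ) (l : List (ℕ × ℕ × Bool)) : Bool :=
  decide (∃ T : Fin 12, a + 1 ≤ (target T).1 ∧ ∀ i ∈ l, (i.1, i.2.2) ∈ (target T).2)

set_option maxRecDepth 100000 in
theorem all_covered : ∀ e0 : Fin 5, ∀ l ∈ shapes 4 (4 - e0.val), e0.val + wt l = 4 → covered e0.val l = true := by
  decide +kernel

set_option maxRecDepth 100000 in
theorem all_covered' : ∀ e0 : Fin 5, ∀ a : Fin 4, ∀ l ∈ shapes 4 (4 - e0.val),
    e0.val + wt l = 4 → 2 ^ a.val + 1 ≤ 2 * e0.val → covered' a.val l = true := by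
  decide +kernel

theorem exists_target (e0 : ℕ) (l : List (ℕ × ℕ × Bool)) (hw : e0 + wt l = 4)
    (hp : ∀ i ∈ l, 1 ≤ i.1 ∧ 1 ≤ i.2.1) :
    ∃ T : Fin 12, 2 * e0 ≤ 2 ^ (target T).1 ∧
      ∀ i ∈ l, i.2.1 ≤ 2 ^ (target T).1 ∧ (i.1, i.2.2) ∈ (target T).2 := by
  have h := all_covered ⟨e0, by omega⟩ l (mem_shapes 4 _ l (by simp only; omega) (by omega) hp) hw
  simpa [covered] using h

theorem exists_target' (e0 a : ℕ) (l : List (ℕ × ℕ × Bool)) (hw : e0 + wt l = 4)
    (hp : ∀ i ∈ l, 1 ≤ i.1 ∧ 1 ≤ i.2.1) (ha : 2 ^ a + 1 ≤ 2 * e0) :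
    ∃ T : Fin 12, a + 1 ≤ (target T).1 ∧ ∀ i ∈ l, (i.1, i.2.2) ∈ (target T).2 := by
  have ha4 : a < 4 := by
    by_contra h
    have := Nat.pow_le_pow_right two_pos (show 4 ≤ a by omega)
    omega
  have h := all_covered' ⟨e0, by omega⟩ ⟨a, ha4⟩ l (mem_shapes 4 _ l (by simp only; omega) (by omega) hp) hw ha
  simpa [covered'] using h

end CfsgLib.Spectrum.SpEight
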