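import Cfsg.Agent.Lib.Spectrum.PSpFour.Poly
import Cfsg.Agent.Lib.Spectrum.SpEight.Shapes

/-!
Bounds on the orders of matrices of size eight with self-reciprocal characteristic polynomial in characteristic two.
-/

set_option autoImplicit false
set_option linter.unusedSectionVars false
set_option linter.style.haveILetI false
set_option linter.style.longLine false

namespace CfsgLib.Spectrum.SpEight

open Polynomial UniqueFactorizationMonoid CfsgLib.Spectrum.PSpFour

variable {F : Type*} [Field F]

/-- The quartic whose roots are the traces of a self-reciprocal octic. -/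
noncomputable def half (f : F[X]) : F[X] :=
  X ^ 4 + C (f.coeff 7) * X ^ 3 + C (f.coeff 6) * X ^ 2 + C (f.coeff 5 + f.coeff 7) * X + C (f.coeff 4)

theorem half_monic (f : F[X]) : (half f).Monic := by rw [half]; monicity!

theorem half_natDegree (f : F[X]) : (half f).natDegree = 4 := by rw [half]; compute_degree!

theorem map_eq_prod_quad [CharP F 2] {K : Type*} [Field K] [IsAlgClosed K] (φ : F →+* K) {f : F[X]}
    (hm : f.Monic) (hd : f.natDegree = 8) (h0 : f.coeff 0 = 1) (hrev : f.reverse = f) :
    f.map φ = (((half f).map φ).roots.map quad).prod := by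
  haveI : CharP K 2 := charP_of_injective_ringHom φ.injective 2
  haveI : Infinite K := IsAlgClosed.instInfinite
  have hc : ∀ i, i ≤ 8 → f.coeff (8 - i) = f.coeff i := fun i hi => by
    conv_rhs => rw [← hrev]
    rw [coeff_reverse, hd, revAt_le hi]
  have h1 : f.coeff 1 = f.coeff 7 := (hc 1 (by norm_num)).symm
  have h2 : f.coeff 2 = f.coeff 6 := (hc 2 (by norm_num)).symm
  have h3 : f.coeff 3 = f.coeff 5 := (hc 3 (by norm_num)).symm
  have h8 : f.coeff 8 = 1 := by rw [← hd]; exact hm.coeff_natDegree
  set G := (half f).map φ with hG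
  have hGd : G.natDegree = 4 := by rw [hG, natDegree_map, half_natDegree]
  have hsp : G.roots.card = 4 := by rw [← hGd]; exact (IsAlgClosed.splits G).natDegree_eq_card_roots.symm
  have hGp : (G.roots.map fun s => X - C s).prod = G :=
    prod_multiset_X_sub_C_of_monic_of_roots_card_eq ((half_monic f).map φ) (by rw [hsp, hGd])
  refine Polynomial.funext fun x => ?_
  rw [eval_multiset_prod, Multiset.map_map]
  rw [f.as_sum_range' 9 (by omega), Polynomial.map_sum, eval_finset_sum]
  simp only [Finset.sum_range_succ, Finset.sum_range_zero, map_monomial, eval_monomial, zero_add, h0, h1, h2, h3,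
    h8, map_one]
  by_cases hx : x = 0
  · subst hx
    simp [Function.comp_def, quad]
  · have e : (G.roots.map fun s => (quad s).eval x) = G.roots.map fun s => x * ((x + x⁻¹) - s) := by
      refine Multiset.map_congr rfl fun s _ => ?_
      rw [CharTwo.sub_eq_add]
      simp only [quad, eval_add, eval_pow, eval_X, eval_mul, eval_C, eval_one]
      field_simp
      ring
    rw [show (eval x ∘ quad : K → K) = fun s => (quad s).eval x from rfl, e, Multiset.prod_map_mul,
      Multiset.map_const', Multiset.prod_replicate, hsp]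
    have e2 : (G.roots.map fun s => (x + x⁻¹) - s).prod = G.eval (x + x⁻¹) := by
      conv_rhs => rw [← hGp]
      rw [eval_multiset_prod, Multiset.map_map]
      refine congrArg _ (Multiset.map_congr rfl fun s _ => ?_)
      simp
    rw [e2, hG, half]
    simp only [Polynomial.map_add, Polynomial.map_mul, Polynomial.map_pow, map_X, map_C, map_add, eval_add,
      eval_mul, eval_pow, eval_X, eval_C]
    have h2' : (2 : K) = 0 := CharTwo.two_eq_zero
    field_simp
    linear_combination (-(2 * φ (f.coeff 7) * x ^ 3 + 2 * φ (f.coeff 7) * x ^ 5 + 2 * x ^ 2 + 3 * x ^ 4 + 2 * x ^ 6 + φ (f.coeff 6) * x ^ 4)) * h2'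

section Shape

variable [Fintype F] [CharP F 2]

theorem exists_shape {f : F[X]} (hm : f.Monic) (hd : f.natDegree = 8) (h0 : f.coeff 0 = 1) (hrev : f.reverse = f) :
    ∃ (e0 : ℕ) (l : List (ℕ × ℕ × Bool)), e0 + wt l = 4 ∧ (∀ i ∈ l, 1 ≤ i.1 ∧ 1 ≤ i.2.1) ∧
      rootMultiplicity 1 f = 2 * e0 ∧ ∀ j N : ℕ, 2 * e0 ≤ 2 ^ j →
        (∀ i ∈ l, i.2.1 ≤ 2 ^ j ∧ tor (Fintype.card F) (i.1, i.2.2) ∣ N) → f ∣ (X ^ N - 1) ^ 2 ^ j := by
  classical
  obtain ⟨k, -, hq⟩ := FiniteField.card F 2
  set φ := algebraMap F (AlgebraicClosure F)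
  haveI : CharP (AlgebraicClosure F) 2 := charP_of_injective_algebraMap φ.injective 2
  set g := half f
  have hg := half_monic f
  set nf := normalizedFactors g
  have hirr : ∀ h ∈ nf, Irreducible h := irreducible_of_normalized_factor
  have hmon : ∀ h ∈ nf, h.Monic := fun h hh =>
    (monic_normalize (hirr h hh).ne_zero) |> (normalize_normalized_factor h hh ▸ ·)
  have hprod : nf.prod = g := by
    refine eq_of_monic_of_associated ?_ hg (prod_normalizedFactors hg.ne_zero)
    exact monic_multiset_prod_of_monic _ _ hmon |> (by simpa using ·)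
  set G := g.map φ with hG
  have hGr : G.roots = nf.bind fun h => (h.map φ).roots := by
    rw [hG, ← hprod, Polynomial.map_multiset_prod, roots_multiset_prod, Multiset.bind_map]
    intro h0
    obtain ⟨h, hh, e⟩ := Multiset.mem_map.mp h0
    exact (hirr h hh).ne_zero ((Polynomial.map_eq_zero φ).mp e)
  have hcount : ∀ s : AlgebraicClosure F, G.roots.count s = nf.count (minpoly F s) := by
    intro s
    rw [hGr, Multiset.count_bind]
    have : ∀ h ∈ nf, (h.map φ).roots.count s = if minpoly F s = h then 1 else 0 := by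
      intro h hh
      split_ifs with he
      · refine le_antisymm (Multiset.nodup_iff_count_le_one.mp (nodup_roots ((PerfectField.separable_of_irreducible (hirr h hh)).map)) s) ?_
        rw [Multiset.one_le_count_iff_mem, mem_roots (map_ne_zero (hirr h hh).ne_zero), IsRoot.def, eval_map, ← he,
          ← aeval_def]
        exact minpoly.aeval F s
      · refine Multiset.count_eq_zero.mpr fun hs => he ?_
        rw [mem_roots (map_ne_zero (hirr h hh).ne_zero), IsRoot.def, eval_map, ← aeval_def] at hs
        exact (minpoly.eq_of_irreducible_of_monic (hirr h hh) hs (hmon h hh)).symm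
    rw [Multiset.map_congr rfl this]
    clear this
    induction nf using Multiset.induction_on with
    | empty => simp
    | cons a t ih => rw [Multiset.map_cons, Multiset.sum_cons, ih, Multiset.count_cons, add_comm]
  have hfac := map_eq_prod_quad φ hm hd h0 hrev
  rw [Finset.prod_multiset_map_count] at hfac
  let sg : F[X] → Bool := fun h => decide (h ∣ dickson 1 (1 : F) (Fintype.card F ^ h.natDegree + 1))
  set S := nf.toFinset.erase X with hS
  refine ⟨nf.count X, S.toList.map fun h => (h.natDegree, nf.count h, sg h), ?_, ?_, ?_, ?_⟩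
  · have hw : wt (S.toList.map fun h => (h.natDegree, nf.count h, sg h)) = ∑ h ∈ S, h.natDegree * nf.count h := by
      rw [wt, List.map_map]
      exact Finset.sum_map_toList S _
    have htot : ∑ h ∈ nf.toFinset, h.natDegree * nf.count h = 4 := by
      rw [← half_natDegree f, show half f = nf.prod from hprod.symm, natDegree_multiset_prod_of_monic _ hmon,
        Finset.sum_multiset_map_count]
      exact Finset.sum_congr rfl fun h _ => by rw [smul_eq_mul, mul_comm]
    rw [hw, hS]
    by_cases hX : X ∈ nf.toFinset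
    · rw [← htot, ← Finset.add_sum_erase _ _ hX, natDegree_X, one_mul]
    · rw [Finset.erase_eq_of_notMem hX, htot, Multiset.count_eq_zero.mpr (by simpa using hX), zero_add]
  · intro i hi
    obtain ⟨h, hh, rfl⟩ := List.mem_map.mp hi
    rw [Finset.mem_toList, hS, Finset.mem_erase, Multiset.mem_toFinset] at hh
    exact ⟨(hirr h hh.2).natDegree_pos, Multiset.one_le_count_iff_mem.mpr hh.2⟩
  · have h10 : (1 : AlgebraicClosure F) = φ 1 := (map_one φ).symm
    rw [eq_rootMultiplicity_map φ.injective (1 : F), map_one, hfac]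
    set t := G.roots.toFinset
    have hsplit : ∏ s ∈ t, quad s ^ G.roots.count s =
        (X - C 1) ^ (2 * nf.count X) * ∏ s ∈ t.erase 0, quad s ^ G.roots.count s := by
      have hq0 : quad (0 : AlgebraicClosure F) = (X - C 1) ^ 2 := by
        rw [← quad_degenerate (e := (1 : AlgebraicClosure F)) (one_mul 1), inv_one, CharTwo.add_self_eq_zero, neg_zero]
      have hcX : G.roots.count 0 = nf.count X := by rw [hcount, minpoly.zero]
      rw [pow_mul, ← hq0, ← hcX]
      by_cases h : (0 : AlgebraicClosure F) ∈ t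
      · rw [← Finset.mul_prod_erase _ _ h]
      · rw [Finset.erase_eq_of_notMem h, Multiset.count_eq_zero.mpr (by simpa [t] using h), pow_zero, one_mul]
    rw [hsplit, rootMultiplicity_mul, rootMultiplicity_X_sub_C_pow]
    swap
    · refine mul_ne_zero (pow_ne_zero _ (X_sub_C_ne_zero 1)) (Finset.prod_ne_zero_iff.mpr fun s _ => pow_ne_zero _ ?_)
      intro hz
      have := congrArg (eval 0) hz
      simp [quad] at this
    rw [rootMultiplicity_eq_zero, add_zero]
    rw [IsRoot.def, eval_prod, Finset.prod_eq_zero_iff]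
    rintro ⟨s, hs, hs0⟩
    rw [eval_pow] at hs0
    have h1 := eq_zero_of_pow_eq_zero hs0
    simp only [quad, eval_add, eval_pow, eval_X, eval_mul, eval_C, eval_one, one_pow, mul_one] at h1
    refine (Finset.mem_erase.mp hs).1 ?_
    rw [add_assoc, add_comm s, ← add_assoc, CharTwo.add_self_eq_zero, zero_add] at h1
    exact h1
  · intro j N hj hl
    rw [← map_dvd_map' φ, hfac]
    refine Finset.prod_dvd_of_coprime (fun s _ t _ hst => (quad_coprime hst).pow) fun s hs => ?_
    rw [Polynomial.map_pow, Polynomial.map_sub, Polynomial.map_pow, map_X, Polynomial.map_one]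
    rw [Multiset.mem_toFinset] at hs
    by_cases hs0 : s = 0
    · subst hs0
      have hq0 : quad (0 : AlgebraicClosure F) = (X - C 1) ^ 2 := by
        rw [← quad_degenerate (e := (1 : AlgebraicClosure F)) (one_mul 1), inv_one, CharTwo.add_self_eq_zero, neg_zero]
      rw [hcount, minpoly.zero, hq0, ← pow_mul]
      refine (pow_dvd_pow _ hj).trans (pow_dvd_pow_of_dvd ?_ _)
      rw [map_one]
      simpa using sub_one_dvd_pow_sub_one (X : (AlgebraicClosure F)[X]) N
    set h := minpoly F s with hh
    have hmem : h ∈ nf := by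
      rw [← Multiset.one_le_count_iff_mem, ← hcount]
      exact Multiset.one_le_count_iff_mem.mpr hs
    have hX : h ≠ X := fun e => hs0 (by
      have := minpoly.aeval F s
      rw [← hh, e, aeval_X] at this
      exact this)
    obtain ⟨he, hN⟩ := hl (h.natDegree, nf.count h, sg h) (List.mem_map.mpr
      ⟨h, Finset.mem_toList.mpr (Finset.mem_erase.mpr ⟨hX, Multiset.mem_toFinset.mpr hmem⟩), rfl⟩)
    rw [hcount]
    refine (pow_dvd_pow _ he).trans (pow_dvd_pow_of_dvd ?_ _)
    obtain ⟨x, hx, hsx⟩ := exists_root s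
    have hne : x ≠ x⁻¹ := fun e => hs0 (by rw [hsx, ← e, CharTwo.add_self_eq_zero, neg_zero])
    have hsx' : s = x + x⁻¹ := by rw [hsx, CharTwo.neg_eq]
    set n := Fintype.card F ^ h.natDegree + 1
    have hdk : ∀ h' : F[X], aeval s (dickson 1 (1 : F) n) = x ^ n + x⁻¹ ^ n := fun _ => by
      rw [aeval_def, ← eval_map, map_dickson, map_one, hsx', dickson_one_one_eval_add_inv _ _ (mul_inv_cancel₀ hx)]
    have hiff : h ∣ dickson 1 (1 : F) n ↔ x ^ n = 1 := by
      rw [hh, minpoly.dvd_iff, hdk h, inv_pow, CharTwo.add_eq_zero]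
      constructor
      · intro e
        have h2 : x ^ n * x ^ n = 1 := by nth_rw 2 [e]; exact mul_inv_cancel₀ (pow_ne_zero _ hx)
        rcases mul_self_eq_one_iff.mp h2 with e' | e'
        · exact e'
        · rw [e', CharTwo.neg_eq]
      · intro e; rw [e, inv_one]
    have hfix : s ^ 2 ^ ((k : ℕ) * h.natDegree) = s := by
      have hi : IsIntegral F s := Algebra.IsIntegral.isIntegral s
      haveI := IntermediateField.adjoin.finiteDimensional hi
      haveI : Finite (IntermediateField.adjoin F {s}) := Module.finite_of_finite F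
      haveI := Fintype.ofFinite (IntermediateField.adjoin F {s})
      have hc : Fintype.card (IntermediateField.adjoin F {s}) = 2 ^ ((k : ℕ) * h.natDegree) := by
        rw [Module.card_eq_pow_finrank (K := F), IntermediateField.adjoin.finrank hi, hq, ← pow_mul, hh]
      have := congrArg Subtype.val
        (FiniteField.pow_card (⟨s, IntermediateField.mem_adjoin_simple_self F s⟩ : IntermediateField.adjoin F {s}))
      rw [hc] at this
      exact this
    have hqd : 2 ^ ((k : ℕ) * h.natDegree) = Fintype.card F ^ h.natDegree := by rw [hq, ← pow_mul]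
    have hpw : x ^ tor (Fintype.card F) (h.natDegree, sg h) = 1 := by
      by_cases hb : h ∣ dickson 1 (1 : F) n
      · have : sg h = true := decide_eq_true hb
        rw [this]
        exact hiff.mp hb
      · have : sg h = false := decide_eq_false hb
        rw [this]
        rw [hsx] at hfix
        rcases fixed_cases 2 ((k : ℕ) * h.natDegree) hx hfix with e | e
        · rw [hqd] at e; exact e
        · rw [hqd] at e; exact absurd (hiff.mpr e) hb
    rw [hsx, ← map_one C]
    refine (quad_dvd hx hne hpw (by rw [inv_pow, hpw, inv_one])).trans ?_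
    obtain ⟨c, hc⟩ := hN
    rw [map_one, hc]
    exact dvd_pow_sub_one X _ c

end Shape

section Bounds

variable [Fintype F] [CharP F 2] {ι : Type*} [Fintype ι] [DecidableEq ι]

theorem pow_eq_one_of_dvd [Nonempty ι] (A : Matrix ι ι F) {j N : ℕ} (h : A.charpoly ∣ (X ^ N - 1) ^ 2 ^ j) :
    A ^ (2 ^ j * N) = 1 := by
  haveI : CharP (Matrix ι ι F) 2 := inferInstance
  obtain ⟨R, hR⟩ := h
  have e := congrArg (aeval A) hR
  rw [map_mul, A.aeval_self_charpoly, zero_mul, map_pow, map_sub, map_pow, aeval_X, map_one,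
    sub_pow_char_pow_of_commute 2 j (Commute.one_right _), one_pow, sub_eq_zero, ← pow_mul, mul_comm] at e
  exact e

/-- The powers of `T - 1` stabilise early when its kernel is large. -/
theorem aeval_eq_zero_of_ker {V : Type*} [AddCommGroup V] [Module F V] [FiniteDimensional F V] (T : Module.End F V)
    {e : ℕ} {R : F[X]} (he : rootMultiplicity 1 T.charpoly = 2 * e) (hR : T.charpoly = (X - C 1) ^ (2 * e) * R)
    (hk : Module.finrank F (LinearMap.ker (T - 1)) ≠ 1) :
    aeval T ((X - C 1) ^ (2 * e - 1) * R) = 0 := by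
  set N : Module.End F V := T - 1 with hN
  have hX : aeval T (X - C 1 : F[X]) = N := by simp [hN]
  have hCH : N ^ (2 * e) * aeval T R = 0 := by rw [← hX, ← map_pow, ← map_mul, ← hR, T.aeval_self_charpoly]
  rw [map_mul, map_pow, hX]
  refine LinearMap.ext fun v => ?_
  set y := aeval T R v
  have hy : (N ^ (2 * e)) y = 0 := LinearMap.congr_fun hCH v
  show (N ^ (2 * e - 1)) y = 0
  by_contra hy'
  have he1 : 1 ≤ 2 * e := by
    by_contra hc
    exact hy' (by rwa [show 2 * e - 1 = 2 * e by omega])
  have hgrow : ∀ i, i + 1 ≤ 2 * e → Module.finrank F (LinearMap.ker (N ^ 1)) + i ≤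
      Module.finrank F (LinearMap.ker (N ^ (i + 1))) := by
    intro i
    induction i with
    | zero => intro _; simp
    | succ i ih =>
      intro hi
      have hlt : LinearMap.ker (N ^ (i + 1)) < LinearMap.ker (N ^ (i + 1 + 1)) := by
        refine lt_of_le_of_ne (fun x hx => ?_) fun heq => hy' ?_
        · rw [LinearMap.mem_ker] at hx ⊢
          rw [pow_succ', Module.End.mul_apply, hx, map_zero]
        · have hm : (N ^ (2 * e - (i + 2))) y ∈ LinearMap.ker (N ^ (i + 1 + 1)) := by
            rw [LinearMap.mem_ker, ← Module.End.mul_apply, ← pow_add,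
              show i + 1 + 1 + (2 * e - (i + 2)) = 2 * e by omega, hy]
          rw [← heq, LinearMap.mem_ker, ← Module.End.mul_apply, ← pow_add,
            show i + 1 + (2 * e - (i + 2)) = 2 * e - 1 by omega] at hm
          exact hm
      have := Submodule.finrank_lt_finrank_of_lt hlt
      have := ih (by omega)
      omega
  have h1 := hgrow (2 * e - 1) (by omega)
  rw [pow_one, show 2 * e - 1 + 1 = 2 * e by omega] at h1
  have h2 : Module.finrank F (LinearMap.ker (N ^ (2 * e))) ≤ 2 * e := by
    have := LinearMap.finrank_genEigenspace_le T 1 (2 * e)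
    rwa [Module.End.genEigenspace_nat, one_smul, he] at this
  have h3 : 0 < Module.finrank F (LinearMap.ker N) := by
    rw [Nat.pos_iff_ne_zero, Ne, Submodule.finrank_eq_zero]
    intro hbot
    apply hy'
    have : N ((N ^ (2 * e - 1)) y) = 0 := by
      rw [← Module.End.mul_apply, ← pow_succ', show 2 * e - 1 + 1 = 2 * e by omega, hy]
    simpa [hbot] using (LinearMap.mem_ker.mpr this)
  omega

theorem orderOf_mem_spec [Nonempty ι] (A : Matrix ι ι F) (hd : Fintype.card ι = 8) (h0 : A.charpoly.coeff 0 = 1)
    (hrev : A.charpoly.reverse = A.charpoly) : orderOf A ∈ spec (Fintype.card F) := by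
  obtain ⟨e0, l, hw, hp, -, hl⟩ := exists_shape A.charpoly_monic (by rw [A.charpoly_natDegree_eq_dim, hd]) h0 hrev
  obtain ⟨T, hT, hi⟩ := exists_target e0 l hw hp
  exact ⟨T, orderOf_dvd_of_pow_eq_one (pow_eq_one_of_dvd A (hl _ _ hT fun i h =>
    ⟨(hi i h).1, tor_dvd Fintype.card_pos T (hi i h).2⟩))⟩

theorem two_mul_orderOf_mem_spec [Nonempty ι] (A : Matrix ι ι F) (hd : Fintype.card ι = 8) (h0 : A.charpoly.coeff 0 = 1)
    (hrev : A.charpoly.reverse = A.charpoly) (hS : ∑ i ∈ Finset.range (orderOf A), A ^ i ≠ 0)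
    (hk : Module.finrank F (LinearMap.ker (Matrix.toLin' A - 1)) ≠ 1) :
    orderOf A * 2 ∈ spec (Fintype.card F) := by
  obtain ⟨e0, l, hw, hp, hr, hl⟩ := exists_shape A.charpoly_monic (by rw [A.charpoly_natDegree_eq_dim, hd]) h0 hrev
  set m := orderOf A
  have hm0 : m ≠ 0 := by
    intro h
    apply hS
    simp [h]
  obtain ⟨a, n, hn, hman⟩ := Nat.exists_eq_pow_mul_and_not_dvd hm0 2 (by norm_num)
  have ha : 2 ^ a + 1 ≤ 2 * e0 := by
    by_contra hlt
    apply hS
    obtain ⟨R, hR, hR1⟩ := exists_eq_pow_rootMultiplicity_mul_and_not_dvd A.charpoly A.charpoly_monic.ne_zero 1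
    rw [hr] at hR
    have hann := aeval_eq_zero_of_ker (Matrix.toLin' A) (e := e0) (R := R)
      (by rw [Matrix.charpoly_toLin']; exact hr) (by rw [Matrix.charpoly_toLin']; exact hR) hk
    have hannA : aeval A ((X - C 1) ^ (2 * e0 - 1) * R) = 0 := by
      refine (map_eq_zero_iff Matrix.toLinAlgEquiv' Matrix.toLinAlgEquiv'.injective).mp ?_
      rw [← Polynomial.aeval_algHom_apply]
      exact hann
    set P : F[X] := ∑ i ∈ Finset.range m, X ^ i
    have hP : aeval A P = ∑ i ∈ Finset.range m, A ^ i := by simp [P]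
    rw [← hP]
    have hPm : P * (X - C 1) = X ^ m - 1 := by rw [map_one]; exact geom_sum_mul X m
    have hPX : aeval A P * aeval A (X - C 1 : F[X]) = 0 := by
      rw [← map_mul, hPm, map_sub, map_pow, aeval_X, map_one, pow_orderOf_eq_one, sub_self]
    obtain ⟨W, hW⟩ : (X - C 1 : F[X]) ^ (2 * e0 - 1) ∣ P := by
      refine (pow_dvd_pow _ (show 2 * e0 - 1 ≤ 2 ^ a - 1 by omega)).trans ?_
      refine (mul_dvd_mul_iff_right (X_sub_C_ne_zero (1 : F))).mp ?_
      rw [← pow_succ, Nat.sub_add_cancel Nat.one_le_two_pow, hPm, hman, mul_comm (2 ^ a) n, pow_mul,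
        show ((X : F[X]) ^ n) ^ 2 ^ a - 1 = (X ^ n - 1) ^ 2 ^ a by rw [sub_pow_char_pow, one_pow]]
      exact pow_dvd_pow_of_dvd (by rw [map_one]; simpa using sub_one_dvd_pow_sub_one (X : F[X]) n) _
    have hPR : aeval A P * aeval A R = 0 := by
      rw [← map_mul, hW, show (X - C 1) ^ (2 * e0 - 1) * W * R = W * ((X - C 1) ^ (2 * e0 - 1) * R) by ring, map_mul,
        hannA, mul_zero]
    obtain ⟨u, w, huw⟩ : IsCoprime R (X - C 1) := ((irreducible_X_sub_C (1 : F)).coprime_iff_not_dvd.mpr hR1).symm
    calc aeval A P = aeval A P * aeval A (u * R + w * (X - C 1)) := by rw [huw, map_one, mul_one]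
      _ = aeval A (u * (P * R) + w * (P * (X - C 1))) := by rw [← map_mul]; congr 1; ring
      _ = 0 := by rw [map_add, map_mul, map_mul, map_mul, map_mul, hPR, hPX, mul_zero, mul_zero, add_zero]
  obtain ⟨T, hT, hi⟩ := exists_target' e0 a l hw hp ha
  have h8 : 2 ^ 3 = 8 := rfl
  have hdvd : m ∣ 2 ^ 3 * big (Fintype.card F) T := orderOf_dvd_of_pow_eq_one (pow_eq_one_of_dvd A (hl _ _ (by omega)
    fun i h => ⟨by
      have h1 : i.1 * i.2.1 ≤ wt l := List.le_sum_of_mem (List.mem_map.mpr ⟨i, h, rfl⟩)
      have := Nat.le_mul_of_pos_left i.2.1 (hp i h).1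
      omega, tor_dvd Fintype.card_pos T (hi i h)⟩))
  have hn2 : Nat.Coprime n (2 ^ 3) := ((Nat.prime_two.coprime_iff_not_dvd.mpr hn).symm).pow_right 3
  have hnb : n ∣ big (Fintype.card F) T := hn2.dvd_of_dvd_mul_left ((Dvd.intro_left _ hman.symm).trans hdvd)
  refine ⟨T, ?_⟩
  rw [hman, mul_right_comm, ← pow_succ]
  exact mul_dvd_mul (pow_dvd_pow 2 hT) hnb

end Bounds

end CfsgLib.Spectrum.SpEight
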